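import Mathlib

/-!
Divisors congruent to `±1` of `e (n p + 1)` for small `n`.
-/

set_option autoImplicit false

namespace CfsgLib.BrauerFew

theorem cofactor {p e n d c σ : ℤ} (hd : p ∣ d - σ) (hσ : σ * σ = 1) (hc : d * c = e * (n * p + 1)) :
    p ∣ c - σ * e := by
  obtain ⟨u, hu⟩ := hd
  have : c - σ * e = p * (σ * (e * n - u * c)) := by
    have hd' : d = σ + p * u := by linarith
    subst hd'
    linear_combination σ * hc - c * hσ
  exact ⟨_, this⟩

/-- The condition that `n` is not of the form `(h u p + u ^ 2 + u + h) / (u + 1)`. -/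
def NoForm (p n : ℤ) : Prop := ∀ h u : ℤ, 0 < h → 0 < u → n * (u + 1) ≠ h * u * p + u ^ 2 + u + h

theorem noForm_of_small {p n : ℤ} (hp : 2 ≤ p) (hn : 2 * n ≤ p + 1) : NoForm p n := by
  intro h u hh hu he
  have h1 : 0 ≤ (h - 1) * (u * p + 1) := mul_nonneg (by omega) (by nlinarith)
  have h2 : 0 ≤ (u - 1) * (p - 2) := mul_nonneg (by omega) (by omega)
  have h3 : 2 * n * (u + 1) ≤ (p + 1) * (u + 1) := mul_le_mul_of_nonneg_right hn (by omega)
  nlinarith

/-- A divisor congruent to `1`. -/
theorem deg_pos {p e t n d c : ℤ} (hp : 2 ≤ p) (he : 1 ≤ e) (het : e * t = p - 1) (hF : NoForm p n)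
    (hd : p ∣ d - 1) (hd2 : 2 ≤ d) (hc : d * c = e * (n * p + 1)) (hn0 : 0 ≤ n) : d = n * p + 1 := by
  obtain ⟨v, hv⟩ := cofactor hd (by norm_num) hc
  obtain ⟨u, hu⟩ := hd
  have hu' : d = u * p + 1 := by linarith
  have hv' : c = e + v * p := by linarith
  subst hu' hv'
  have hu1 : 1 ≤ u := by nlinarith
  have hcpos : 0 < e + v * p := by nlinarith [mul_pos (show 0 < e by omega) (show 0 < n * p + 1 by nlinarith)]
  have hep : e < p := by
    have : 1 ≤ t := by nlinarith
    nlinarith
  have hv0 : 0 ≤ v := by nlinarith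
  have key : u * e + v * (u * p + 1) = e * n := by
    have : p * (u * e + v * (u * p + 1) - e * n) = 0 := by linear_combination hc
    have := (mul_eq_zero.1 this).resolve_left (by omega)
    linarith
  rcases eq_or_lt_of_le hv0 with h | h
  · subst h
    have : u = n := by
      have : e * (u - n) = 0 := by linear_combination key
      have := (mul_eq_zero.1 this).resolve_left (by omega)
      linarith
    rw [this]
  exfalso
  have hh : v * (u + 1) = e * (n - u - v * u * t) := by linear_combination key + v * u * het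
  have h1 : 1 ≤ n - u - v * u * t := by nlinarith
  refine hF (n - u - v * u * t) u (by omega) (by omega) ?_
  linear_combination u * t * hh + u * (n - u - v * u * t) * het

/-- A divisor congruent to `-1`. -/
theorem deg_neg {p e t n d c : ℤ} (hp : 2 ≤ p) (he : 2 ≤ e) (het : e * t = p - 1) (hF : NoForm p n)
    (hd : p ∣ d + 1) (hd1 : 1 ≤ d) (hc : d * c = e * (n * p + 1)) (hn0 : 0 ≤ n) :
    d = p - 1 ∨ t = 1 ∧ d = e * (n * p + 1) := by
  obtain ⟨v, hv⟩ := cofactor (σ := -1) (by simpa [sub_neg_eq_add] using hd) (by norm_num) hc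
  obtain ⟨u, hu⟩ := hd
  have hu' : d = u * p - 1 := by linarith
  have hv' : c = v * p - e := by linarith
  subst hu' hv'
  have hu1 : 1 ≤ u := by nlinarith
  have hcpos : 0 < v * p - e := by nlinarith [mul_pos (show 0 < e by omega) (show 0 < n * p + 1 by nlinarith)]
  have hv1 : 1 ≤ v := by nlinarith
  have ht1 : 1 ≤ t := by nlinarith
  have key : v * (u * p - 1) = e * (n + u) := by
    have : p * (v * (u * p - 1) - e * (n + u)) = 0 := by linear_combination hc
    have := (mul_eq_zero.1 this).resolve_left (by omega)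
    linarith
  rcases eq_or_lt_of_le hu1 with h | h
  · subst h
    left
    ring
  right
  obtain ⟨k, hk⟩ : ∃ k, k = n + u - v * u * t := ⟨_, rfl⟩
  have hh : v * (u - 1) = e * k := by subst hk; linear_combination key + v * u * het
  have hk1 : 1 ≤ k := by nlinarith
  have hnu : n + u = k * p + v * t := by
    subst hk
    linear_combination t * hh + (n + u - v * u * t) * het
  have hm : v * t * (u - 1) = k * (p - 1) := by linear_combination t * hh + k * het
  have hm1 : v * t = 1 := by
    by_contra hne
    have : 1 ≤ v * t := by nlinarith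
    refine hF k (v * t - 1) (by omega) (by omega) ?_
    linear_combination (v * t) * hnu - hm
  have hv2 : v = 1 := Int.eq_one_of_mul_eq_one_right (by omega) hm1
  subst hv2
  rw [one_mul] at hm1
  subst hm1
  refine ⟨rfl, ?_⟩
  rw [mul_one] at het
  subst het
  have hu2 : u = k * (p - 1) + 1 := by linarith
  have hkn : k = n := by subst hu2; linarith
  subst hu2 hkn
  ring

/-- The cofactor of the exceptional degree. -/
theorem exceptional_param {p e t n r c : ℤ} (hp : 2 ≤ p) (he : 2 ≤ e) (het : e * t = p - 1) (hF : NoForm p n)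
    (hr : 1 ≤ r) (hc : (r * p - e) * c = e * (n * p + 1)) (hn0 : 0 ≤ n)
    (hf1 : r * p - e ≠ 1) : n + 1 = r * t := by
  have ht0 : 1 ≤ t := by nlinarith
  have hep : e ≤ p - 1 := by rw [← het]; exact le_mul_of_one_le_right (by omega) ht0
  have hd0 : 0 < r * p - e := by nlinarith
  obtain ⟨s, hs⟩ : ∃ s, c + 1 = p * s := by
    refine ⟨c + 1 - t * (r * c - e * n), ?_⟩
    linear_combination (c + 1) * het + t * hc
  have hcpos : 0 < c := by nlinarith [mul_pos (show 0 < e by omega) (show 0 < n * p + 1 by nlinarith)]
  have hs1 : 1 ≤ s := by nlinarith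
  have hc' : c = p * s - 1 := by linarith
  subst hc'
  have key : r * (s * p - 1) = e * (n + s) := by
    have : p * (r * (s * p - 1) - e * (n + s)) = 0 := by linear_combination hc
    have := (mul_eq_zero.1 this).resolve_left (by omega)
    linarith
  have hh : r * (s - 1) = e * (n + s - r * s * t) := by linear_combination key + r * s * het
  rcases eq_or_lt_of_le hs1 with h | h
  · subst h
    have : e * (n + 1 - r * t) = 0 := by linear_combination -hh
    have := (mul_eq_zero.1 this).resolve_left (by omega)
    linarith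
  exfalso
  obtain ⟨k, hk⟩ : ∃ k, k = n + s - r * s * t := ⟨_, rfl⟩
  rw [← hk] at hh
  have hk1 : 1 ≤ k := by nlinarith
  have hm : r * t * (s - 1) = k * (p - 1) := by linear_combination t * hh + k * het
  by_cases hrt : r * t = 1
  · have hr1 : r = 1 := Int.eq_one_of_mul_eq_one_right (by omega) hrt
    subst hr1
    rw [one_mul] at hrt
    subst hrt
    omega
  · have : 1 ≤ r * t := by nlinarith
    refine hF k (r * t - 1) (by omega) (by omega) ?_
    have hns : n + s = k * p + r * t := by linear_combination hm - hk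
    linear_combination (r * t) * hns - hm

/-- The exceptional degree congruent to `e`. -/
theorem exceptional_pos {p e t n r c : ℤ} (hp : 2 ≤ p) (he : 2 ≤ e) (het : e * t = p - 1) (hF : NoForm p n)
    (hr : 1 ≤ r) (hc : (e + r * p) * c = e * (n * p + 1)) (hn0 : 0 ≤ n) : c = 1 := by
  obtain ⟨s, hs⟩ : ∃ s, c - 1 = p * s := by
    refine ⟨c - 1 + t * (r * c - e * n), ?_⟩
    linear_combination (c - 1) * het - t * hc
  have hd0 : 0 < e + r * p := by nlinarith
  have hcpos : 0 < c := by nlinarith [mul_pos (show 0 < e by omega) (show 0 < n * p + 1 by nlinarith)]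
  have hs1 : 0 ≤ s := by nlinarith
  have hc' : c = p * s + 1 := by linarith
  subst hc'
  rcases eq_or_lt_of_le hs1 with h | h
  · subst h; ring
  exfalso
  have key : r * (s * p + 1) = e * (n - s) := by
    have : p * (r * (s * p + 1) - e * (n - s)) = 0 := by linear_combination hc
    have := (mul_eq_zero.1 this).resolve_left (by omega)
    linarith
  obtain ⟨k, hk⟩ : ∃ k, k = n - s - r * s * t := ⟨_, rfl⟩
  have hh : r * (s + 1) = e * k := by subst hk; linear_combination key + r * s * het
  have hk1 : 1 ≤ k := by nlinarith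
  refine hF k s (by omega) h ?_
  subst hk
  linear_combination s * t * hh + s * (n - s - r * s * t) * het

end CfsgLib.BrauerFew
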