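import Mathlib
import Cfsg.Agent.BrauerReynolds.Values

/-!
The character of the complement on the fixed space of a Sylow subgroup of order `p`, when this subgroup is its own
centraliser.
-/

set_option autoImplicit false
set_option linter.style.haveILetI false
set_option linter.unusedSectionVars false

namespace CfsgLib.BrauerFew

open Cfsg CfsgLib.CharBasics CfsgLib.DefectOne
open scoped ComplexConjugate

universe u

variable {G : Type u} [Group G] [Fintype G] {p : ℕ} [Fact p.Prime] (D : Data G p)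

/-- The average of `χ` over `P h`. -/
noncomputable def phi (χ : G → ℂ) (h : D.H) : ℂ :=
  (p : ℂ)⁻¹ * ∑ i : ZMod p, χ (D.x ^ i.val * (h : G))

theorem isCharacter_phi {χ : G → ℂ} (hχ : IsCharacter G χ) : IsCharacter D.H (phi D χ) := by
  classical
  obtain ⟨n, ρ, rfl⟩ := hχ
  haveI : NeZero p := ⟨D.hp.ne_zero⟩
  let A : ZMod p → Module.End ℂ (Fin n → ℂ) := fun i => ρ (D.x ^ i.val)
  let Q : Module.End ℂ (Fin n → ℂ) := (p : ℂ)⁻¹ • ∑ i : ZMod p, A i
  have hA : ∀ i j, A i * A j = A (i + j) := fun i j => by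
    show ρ _ * ρ _ = ρ _
    rw [← map_mul, ← pow_add]
    congr 1
    rw [D.pow_eq_iff]
    simp
  have hQA : ∀ i, A i * Q = Q := fun i => by
    simp only [Q, mul_smul_comm, Finset.mul_sum, hA]
    congr 1
    exact Equiv.sum_comp (Equiv.addLeft i) A
  have hQQ : Q * Q = Q := by
    conv_lhs => arg 1; simp only [Q]
    rw [smul_mul_assoc, Finset.sum_mul, Finset.sum_congr rfl fun i _ => hQA i, Finset.sum_const, Finset.card_univ,
      ZMod.card, ← Nat.cast_smul_eq_nsmul ℂ, smul_smul, inv_mul_cancel₀ (Nat.cast_ne_zero.2 D.hp.ne_zero),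
      one_smul]
  have hcomm : ∀ h : D.H, ρ (h : G) * Q = Q * ρ (h : G) := fun h => by
    simp only [Q, mul_smul_comm, smul_mul_assoc, Finset.mul_sum, Finset.sum_mul]
    congr 1
    refine Fintype.sum_equiv (Equiv.mulLeft₀ (D.r h) (D.r_ne_zero h)) _ _ fun i => ?_
    show ρ _ * ρ _ = ρ _ * ρ _
    rw [← map_mul, ← map_mul]
    congr 1
    rw [Equiv.mulLeft₀_apply, ← D.conj_pow h i, inv_mul_cancel_right]
  let W : Submodule ℂ (Fin n → ℂ) := LinearMap.range Q
  let R : Representation ℂ D.H (Fin n → ℂ) := ρ.comp D.H.subtype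
  let U : Subrepresentation R := ⟨W, fun h v hv => by
    obtain ⟨w, rfl⟩ := hv
    exact ⟨ρ (h : G) w, (LinearMap.congr_fun (hcomm h) w).symm⟩⟩
  let e : (Fin n → ℂ) →ₗ[ℂ] W := Q.rangeRestrict
  have he : ∀ w : W, e (w : Fin n → ℂ) = w := by
    rintro ⟨_, v, rfl⟩
    exact Subtype.ext (LinearMap.congr_fun hQQ v)
  have heq : phi D ρ.character = U.toRepresentation.character := by
    funext h
    have h0 : phi D ρ.character h = LinearMap.trace ℂ (Fin n → ℂ) (ρ (h : G) * Q) := by
      rw [hcomm h]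
      simp only [phi, Q, A, Representation.character, smul_mul_assoc, Finset.sum_mul, map_smul, map_sum, map_mul,
        smul_eq_mul]
    rw [h0]
    have : ρ (h : G) * Q = W.subtype ∘ₗ ((U.toRepresentation h : W →ₗ[ℂ] W) ∘ₗ e) :=
      LinearMap.ext fun v => rfl
    rw [this, LinearMap.trace_comp_comm']
    refine congrArg (LinearMap.trace ℂ W) (LinearMap.ext fun w => ?_)
    show U.toRepresentation h (e (w : Fin n → ℂ)) = U.toRepresentation h w
    rw [he]
  rw [heq, ← repConj_character (e := (Module.finBasis ℂ W).equivFun)]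
  exact isCharacter_rep _

theorem r_ne_one (hV : Nat.card D.V = 1) {h : D.H} (hh : h ≠ 1) : D.r h ≠ 1 := fun e => hh (by
  have := BrauerReynolds.eq_one_of_card_V D hV ⟨h, D.mem_V_iff_r.2 e⟩
  exact congrArg Subtype.val this)

/-- Off the identity the average is the value. -/
theorem phi_apply (hV : Nat.card D.V = 1) {χ : G → ℂ} (hχ : IsClassFunction G χ) {h : D.H} (hh : h ≠ 1) :
    phi D χ h = χ (h : G) := by
  haveI : NeZero p := ⟨D.hp.ne_zero⟩
  have hr : (1 : ZMod p) - D.r h ≠ 0 := sub_ne_zero.2 (r_ne_one D hV hh).symm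
  have e : ∀ i : ZMod p, χ (D.x ^ i.val * (h : G)) = χ (h : G) := by
    intro i
    set j := (1 - D.r h)⁻¹ * i with hj
    have h1 : D.x ^ i.val * (h : G) = D.x ^ j.val * (h : G) * (D.x ^ j.val)⁻¹ := by
      rw [eq_mul_inv_iff_mul_eq, mul_assoc,
        show (h : G) * D.x ^ j.val = D.x ^ (D.r h * j).val * (h : G) by rw [← D.conj_pow h j, inv_mul_cancel_right],
        ← mul_assoc, ← pow_add]
      congr 1
      rw [D.pow_eq_iff]
      push_cast [ZMod.natCast_zmod_val]
      rw [hj]
      field_simp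
      ring
    rw [h1, hχ]
  rw [phi, Finset.sum_congr rfl fun i _ => e i, Finset.sum_const, Finset.card_univ, ZMod.card, nsmul_eq_mul,
    inv_mul_cancel_left₀ (Nat.cast_ne_zero.2 D.hp.ne_zero)]

/-- The dimension of the fixed space. -/
noncomputable def fx (χ : IrrCharacter G) : ℕ := charDegree (phi D (χ : G → ℂ))

theorem phi_one (χ : IrrCharacter G) : phi D (χ : G → ℂ) 1 = (fx D χ : ℂ) :=
  apply_one (isCharacter_phi D (isCharacter_of_irr χ.2))

theorem fx_eq (hV : Nat.card D.V = 1) (χ : IrrCharacter G) :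
    (p : ℤ) * fx D χ = (charDegree (χ : G → ℂ) : ℤ) - D.S χ D.one := by
  apply Int.cast_injective (α := ℂ)
  push_cast
  rw [← phi_one, phi, ← BrauerReynolds.sum_pow_eq D hV]
  simp only [OneMemClass.coe_one, mul_one]
  rw [mul_inv_cancel_left₀ (Nat.cast_ne_zero.2 D.hp.ne_zero)]

/-- The multiplicity of the trivial character in the fixed space. -/
noncomputable def mu (χ : IrrCharacter G) : ℕ :=
  Classical.choose (classInner_character_nat (isCharacter_phi D (isCharacter_of_irr χ.2)) (oneChar : IrrCharacter D.H))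

theorem mu_spec (χ : IrrCharacter G) : ∑ h : D.H, phi D (χ : G → ℂ) h = (Nat.card D.H : ℂ) * mu D χ := by
  have h : classInner (phi D (χ : G → ℂ)) (fun _ => (1 : ℂ)) = (mu D χ : ℂ) :=
    Classical.choose_spec (classInner_character_nat (isCharacter_phi D (isCharacter_of_irr χ.2))
      (oneChar : IrrCharacter D.H))
  rw [classInner_one, inv_mul_eq_iff_eq_mul₀ (Nat.cast_ne_zero.2 Nat.card_pos.ne')] at h
  exact h

theorem mu_le (χ : IrrCharacter G) : mu D χ ≤ fx D χ := by
  have h1 : ‖∑ h : D.H, phi D (χ : G → ℂ) h‖ ≤ (Nat.card D.H : ℝ) * fx D χ := by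
    refine (norm_sum_le _ _).trans (le_trans (Finset.sum_le_sum fun h _ =>
      CharBasics.norm_le (isCharacter_phi D (isCharacter_of_irr χ.2)) h) ?_)
    rw [Finset.sum_const, Finset.card_univ, Nat.card_eq_fintype_card, nsmul_eq_mul]
    exact le_rfl
  rw [mu_spec, norm_mul, Complex.norm_natCast, Complex.norm_natCast] at h1
  have h2 : 0 < (Nat.card D.H : ℝ) := Nat.cast_pos.2 Nat.card_pos
  exact_mod_cast le_of_mul_le_mul_left h1 h2

theorem sum_apply_H (hV : Nat.card D.V = 1) (χ : IrrCharacter G) :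
    ∑ h : D.H, (χ : G → ℂ) (h : G) =
      (charDegree (χ : G → ℂ) : ℂ) - fx D χ + (Nat.card D.H : ℂ) * mu D χ := by
  classical
  have h1 := Finset.sum_erase_add Finset.univ (fun h : D.H => phi D (χ : G → ℂ) h) (Finset.mem_univ 1)
  have h2 := Finset.sum_erase_add Finset.univ (fun h : D.H => (χ : G → ℂ) (h : G)) (Finset.mem_univ 1)
  rw [← mu_spec, ← h1, ← h2, phi_one, OneMemClass.coe_one, apply_one (isCharacter_of_irr χ.2),
    Finset.sum_congr rfl fun h hh => phi_apply D hV (isClassFunction (isCharacter_of_irr χ.2))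
      (Finset.mem_erase.1 hh).1]
  ring

theorem norm_apply_le_fx (hV : Nat.card D.V = 1) (χ : IrrCharacter G) {h : D.H} (hh : h ≠ 1) :
    ‖(χ : G → ℂ) (h : G)‖ ≤ (fx D χ : ℝ) := by
  rw [← phi_apply D hV (isClassFunction (isCharacter_of_irr χ.2)) hh]
  exact CharBasics.norm_le (isCharacter_phi D (isCharacter_of_irr χ.2)) h

theorem phi_eq_const {χ : IrrCharacter G} (he : mu D χ = fx D χ) (h : D.H) :
    phi D (χ : G → ℂ) h = (fx D χ : ℂ) := by
  have hc := isCharacter_phi D (isCharacter_of_irr χ.2)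
  have hre : ∑ g : D.H, ((fx D χ : ℝ) - (phi D (χ : G → ℂ) g).re) = 0 := by
    rw [Finset.sum_sub_distrib, ← Complex.re_sum, mu_spec, he, Finset.sum_const, Finset.card_univ,
      nsmul_eq_mul, Nat.card_eq_fintype_card]
    simp
  have hn : ∀ g, ‖phi D (χ : G → ℂ) g‖ ≤ (fx D χ : ℝ) := fun g => CharBasics.norm_le hc g
  have hg := (Finset.sum_eq_zero_iff_of_nonneg fun g _ => by
    have h1 := Complex.re_le_norm (phi D (χ : G → ℂ) g)
    have h2 := hn g
    linarith).1 hre h (Finset.mem_univ _)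
  have hre1 : (phi D (χ : G → ℂ) h).re = (fx D χ : ℝ) := by linarith
  have hsq : ‖phi D (χ : G → ℂ) h‖ ^ 2 ≤ (fx D χ : ℝ) ^ 2 :=
    pow_le_pow_left₀ (norm_nonneg _) (hn h) 2
  rw [Complex.sq_norm, Complex.normSq_apply, hre1] at hsq
  have him : (phi D (χ : G → ℂ) h).im = 0 := by
    nlinarith [sq_nonneg (phi D (χ : G → ℂ) h).im]
  exact Complex.ext (by simp [hre1]) (by simp [him])

theorem isMulCommutative_H (hV : Nat.card D.V = 1) : IsMulCommutative D.H := by
  refine ⟨⟨fun a b => ?_⟩⟩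
  have hinj : Function.Injective D.rHom := by
    rw [← MonoidHom.ker_eq_bot_iff, D.ker_rHom]
    exact Subgroup.eq_bot_of_card_eq _ hV
  exact hinj (by rw [map_mul, map_mul, mul_comm])

/-- For an abelian group the norm of a character is at least its degree. -/
theorem degree_le_norm {A : Type*} [Group A] [Fintype A] [IsMulCommutative A] {φ : A → ℂ}
    (hφ : IsCharacter A φ) {m : ℕ} (hm : classInner φ φ = m) : charDegree φ ≤ m := by
  classical
  haveI : Fintype (IrrCharacter A) := Fintype.ofFinite _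
  choose c hc using fun ψ : IrrCharacter A => classInner_character_nat hφ ψ
  have he := classFun_expand (isClassFunction hφ)
  have h1 : (charDegree φ : ℂ) = ∑ ψ : IrrCharacter A, (c ψ : ℂ) := by
    rw [← apply_one hφ]
    conv_lhs => rw [he]
    simp only [Finset.sum_apply, Pi.smul_apply, smul_eq_mul, hc, (irr_comm_hom (Subtype.property _)).1, mul_one]
  have h2 : (m : ℂ) = ∑ ψ : IrrCharacter A, (c ψ : ℂ) * (c ψ : ℂ) := by
    rw [← hm]
    conv_lhs => arg 2; rw [he]
    rw [classInner_sum_right]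
    refine Finset.sum_congr rfl fun ψ _ => ?_
    rw [hc, Exceptional.classInner_smul_right, hc, Complex.conj_natCast]
  have h1' : charDegree φ = ∑ ψ : IrrCharacter A, c ψ := by exact_mod_cast h1
  have h2' : m = ∑ ψ : IrrCharacter A, c ψ * c ψ := by exact_mod_cast h2
  rw [h1', h2']
  exact Finset.sum_le_sum fun ψ _ => Nat.le_mul_self _

theorem exists_parity {χ : G → ℂ} (hχ : IsCharacter G χ) {z : G} (hz : orderOf z = 2) :
    ∃ u : ℤ, χ z = (u : ℂ) ∧ 2 ∣ (charDegree χ : ℤ) - u := by
  classical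
  obtain ⟨lam, hl, hv⟩ := exists_eigen hχ z
  let w : Fin (charDegree χ) → ℤ := fun i => if lam i = 1 then 1 else -1
  have hw : ∀ i, lam i = (w i : ℂ) := fun i => by
    have h1 : lam i * lam i = 1 := by rw [← sq, ← hz]; exact hl i
    simp only [w]
    rcases mul_self_eq_one_iff.1 h1 with h | h
    · simp [h]
    · rw [h]; norm_num
  refine ⟨∑ i, w i, ?_, ?_⟩
  · have := hv 1
    simp only [pow_one, hw] at this
    rw [this]; push_cast; rfl
  · have : (charDegree χ : ℤ) - ∑ i, w i = ∑ i, (1 - w i) := by simp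
    rw [this]
    refine Finset.dvd_sum fun i _ => ?_
    simp only [w]; split_ifs <;> norm_num

end CfsgLib.BrauerFew
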