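import Mathlib
import Cfsg.Agent.BrauerFew.Fixed
import Cfsg.Agent.BrauerFew.Arith

/-!
The principal block of a perfect group with a self centralising Sylow subgroup of order `p` having `n * p + 1`
conjugates, where `n` is not of the form `(h u p + u ^ 2 + u + h) / (u + 1)`.
-/

set_option autoImplicit false
set_option linter.style.haveILetI false
set_option linter.unusedSectionVars false

namespace CfsgLib.BrauerFew

open Cfsg CfsgLib.CharBasics CfsgLib.DefectOne
open scoped ComplexConjugate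

universe u

variable {G : Type u} [Group G] [Fintype G] {p : ℕ} [Fact p.Prime]

/-- The hypotheses. -/
structure Few (D : Data G p) (n : ℕ) : Prop where
  perfect : commutator G = ⊤
  cardV : Nat.card D.V = 1
  card_eq : Nat.card G = p * (Nat.card D.H * (n * p + 1))
  noF : NoForm p n
  two_le : 2 ≤ n

variable {D : Data G p} {n : ℕ}

theorem Few.index_eq (h : Few D n) : D.V.index = Nat.card D.H := by
  rw [← Subgroup.index_mul_card D.V, h.cardV, mul_one]

theorem Few.two_le_e (h : Few D n) : 2 ≤ Nat.card D.H := by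
  have h0 : Nat.card D.H ≠ 0 := Nat.card_pos.ne'
  by_contra hlt
  have h1 : D.V.index = 1 := by rw [h.index_eq]; omega
  have hfac : (Nat.card G).factorization p = 1 := by
    have h1 := (D.hp.pow_dvd_iff_le_factorization Nat.card_pos.ne' (k := 1)).1
      (by rw [pow_one]; exact D.dvd_natCard_G)
    have h2 := (D.hp.pow_dvd_iff_le_factorization Nat.card_pos.ne' (k := 2)).not.1 D.hSyl
    omega
  let P : Sylow p G := Sylow.ofCard (Subgroup.zpowers D.x) (by rw [hfac, pow_one, Nat.card_zpowers, D.hx])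
  refine BrauerReynolds.not_normalizer_le_centralizer h.perfect P D.dvd_natCard_G ?_
  rw [show (P : Subgroup G) = Subgroup.zpowers D.x from rfl]
  exact Subgroup.relIndex_eq_one.1 (D.relIndex_eq.trans h1)

theorem Few.card_mul_index (h : Few D n) : Nat.card D.H * (D.U D.one).index = p - 1 := by
  rw [← h.index_eq, ← D.card_U_one]
  exact D.card_U_mul_index D.one

theorem Few.three_le (h : Few D n) : 3 ≤ p := by
  have h1 := h.two_le_e
  have h2 := h.card_mul_index
  have h3 : 0 < (D.U D.one).index := Nat.pos_of_ne_zero Subgroup.index_ne_zero_of_finite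
  have h4 : Nat.card D.H ≤ Nat.card D.H * (D.U D.one).index := Nat.le_mul_of_pos_right _ h3
  omega

theorem Few.odeg_subsingleton (h : Few D n) : Subsingleton (IrrCharacter D.V) :=
  ⟨fun a b => (BrauerReynolds.irr_V_eq_one D h.cardV a).trans (BrauerReynolds.irr_V_eq_one D h.cardV b).symm⟩

theorem Few.deg_congr_S (h : Few D n) (χ : IrrCharacter G) :
    (p : ℤ) ∣ (charDegree (χ : G → ℂ) : ℤ) - D.S χ D.one :=
  ⟨_, (fx_eq D h.cardV χ).symm⟩

theorem Few.cofactor (h : Few D n) (χ : IrrCharacter G) (hχ : ¬ p ∣ charDegree (χ : G → ℂ)) :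
    ∃ c : ℕ, charDegree (χ : G → ℂ) * c = Nat.card D.H * (n * p + 1) := by
  obtain ⟨c, hc⟩ := BrauerReynolds.degree_dvd_part D.hp hχ (h.card_eq ▸ CharBasics.degree_dvd χ)
  exact ⟨c, hc.symm⟩

/-- A degree congruent to `1`. -/
theorem Few.deg_one (h : Few D n) (χ : IrrCharacter G) (hne : χ ≠ oneChar)
    (hd : (p : ℤ) ∣ (charDegree (χ : G → ℂ) : ℤ) - 1) : charDegree (χ : G → ℂ) = n * p + 1 := by
  have hp3 := h.three_le
  obtain ⟨c, hc⟩ := h.cofactor χ fun hdv => by
    have h1 : (p : ℤ) ∣ (charDegree (χ : G → ℂ) : ℤ) := Int.natCast_dvd_natCast.2 hdv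
    have h2 : (p : ℤ) ∣ 1 := by have := dvd_sub h1 hd; simpa using this
    have := Int.le_of_dvd one_pos h2
    omega
  have h2 : 2 ≤ charDegree (χ : G → ℂ) := by
    have := charDegree_pos χ.2
    by_contra hlt
    exact hne (BrauerReynolds.eq_oneChar_of_deg_one h.perfect χ (by omega))
  have := deg_pos (p := p) (e := Nat.card D.H) (t := (D.U D.one).index) (n := n) (d := charDegree (χ : G → ℂ))
    (c := c) (by omega) (by exact_mod_cast Nat.card_pos) (by
      have := h.card_mul_index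
      have e : ((Nat.card D.H * (D.U D.one).index : ℕ) : ℤ) = ((p - 1 : ℕ) : ℤ) := by rw [this]
      push_cast [Nat.cast_sub (show 1 ≤ p by omega)] at e
      exact e) h.noF hd (by exact_mod_cast h2) (by exact_mod_cast hc) (by omega)
  exact_mod_cast this

/-- A degree congruent to `-1`. -/
theorem Few.deg_neg_one (h : Few D n) (χ : IrrCharacter G) (hd : (p : ℤ) ∣ (charDegree (χ : G → ℂ) : ℤ) + 1) :
    (charDegree (χ : G → ℂ) : ℤ) = (p : ℤ) - 1 := by
  classical
  haveI : Fintype (IrrCharacter G) := Fintype.ofFinite _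
  have hp3 := h.three_le
  obtain ⟨c, hc⟩ := h.cofactor χ fun hdv => by
    have h1 : (p : ℤ) ∣ (charDegree (χ : G → ℂ) : ℤ) := Int.natCast_dvd_natCast.2 hdv
    have h2 : (p : ℤ) ∣ 1 := by have := dvd_sub hd h1; simpa using this
    have := Int.le_of_dvd one_pos h2
    omega
  have hsq : charDegree (χ : G → ℂ) * charDegree (χ : G → ℂ) ≤ p * (charDegree (χ : G → ℂ) * c) := by
    rw [hc, ← h.card_eq, ← sum_sq_degree, ← sq]
    exact Finset.single_le_sum (f := fun ψ : IrrCharacter G => charDegree (ψ : G → ℂ) ^ 2)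
      (fun _ _ => Nat.zero_le _) (Finset.mem_univ χ)
  rcases deg_neg (p := p) (e := Nat.card D.H) (t := (D.U D.one).index) (n := n) (d := charDegree (χ : G → ℂ))
    (c := c) (by omega) (by exact_mod_cast h.two_le_e) (by
      have := h.card_mul_index
      have e : ((Nat.card D.H * (D.U D.one).index : ℕ) : ℤ) = ((p - 1 : ℕ) : ℤ) := by rw [this]
      push_cast [Nat.cast_sub (show 1 ≤ p by omega)] at e
      exact e) h.noF hd (by exact_mod_cast charDegree_pos χ.2) (by exact_mod_cast hc)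
      (by omega) with h1 | ⟨ht, h1⟩
  · exact h1
  · exfalso
    have hd' : charDegree (χ : G → ℂ) = Nat.card D.H * (n * p + 1) := by exact_mod_cast h1
    have ht' : (D.U D.one).index = 1 := by exact_mod_cast ht
    have hc1 : c = 1 := by
      have : charDegree (χ : G → ℂ) * c = charDegree (χ : G → ℂ) * 1 := by rw [hc, mul_one, hd']
      exact Nat.eq_of_mul_eq_mul_left (charDegree_pos χ.2) this
    rw [hc1, mul_one] at hsq
    have h3 := Nat.le_of_mul_le_mul_right hsq (charDegree_pos χ.2)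
    have h4 := h.card_mul_index
    rw [ht', mul_one] at h4
    rw [hd', h4] at h3
    have h5 : (p - 1) * (2 * p + 1) ≤ (p - 1) * (n * p + 1) :=
      Nat.mul_le_mul_left _ (Nat.add_le_add_right (Nat.mul_le_mul_right p h.two_le) 1)
    have h6 : 1 * (2 * p + 1) ≤ (p - 1) * (2 * p + 1) := Nat.mul_le_mul_right _ (by omega)
    omega

/-- A family which does not contain the principal character. -/
theorem Few.exists_family (h : Few D n) {M : Ideal AlgInt} (hM : IsPModular p M) :
    ∃ F : D.Family D.one, oneChar ∈ D.rest F ∧ charDegree (F.θ 1 : G → ℂ) ≠ 1 ∧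
      ((D.U D.one).index = 1 → F.ε = -1) := by
  classical
  haveI : Fintype (IrrCharacter G) := Fintype.ofFinite _
  haveI := h.odeg_subsingleton
  have hdeg1 : ∀ F : D.Family D.one, oneChar ∈ D.rest F → charDegree (F.θ 1 : G → ℂ) ≠ 1 := fun F hF e =>
    hF.2 ⟨1, BrauerReynolds.eq_oneChar_of_deg_one h.perfect _ e⟩
  by_cases ht : (D.U D.one).index = 1
  · haveI hss : Subsingleton (D.Idx D.one) := by
      rw [← Fintype.card_le_one_iff_subsingleton, D.card_Idx, ht]
    have hconst : ∀ χ, D.Const χ D.one := fun χ => D.subsingleton_const χ D.one fun a b => Subsingleton.elim a b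
    have hp3 := h.three_le
    obtain ⟨χ', hχ'1, hχ'⟩ : ∃ χ' : IrrCharacter G, χ' ≠ oneChar ∧ D.d χ' 1 D.one = -1 := by
      by_contra hc
      push Not at hc
      have hrel := D.sum_d_apply_regular 1 D.one (g := (1 : G)) (by rw [orderOf_one]; exact D.hp.not_dvd_one)
      have hterm : ∀ χ ∈ (Finset.univ : Finset (IrrCharacter G)).erase oneChar,
          ∃ k : ℤ, (D.d χ 1 D.one : ℂ) * (χ : G → ℂ) 1 = ((p : ℂ) - 1) * k := by
        intro χ hχ
        have hab := abs_le.1 (D.abs_d_le_one hM χ 1 D.one)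
        have hne := hc χ (Finset.mem_erase.1 hχ).1
        rcases (show D.d χ 1 D.one = 0 ∨ D.d χ 1 D.one = 1 by omega) with h0 | h1
        · exact ⟨0, by rw [h0]; simp⟩
        · have hd : (p : ℤ) ∣ (charDegree (χ : G → ℂ) : ℤ) + 1 := by
            have h2 := h.deg_congr_S χ
            rw [D.S_const (hconst χ), h1] at h2
            have h3 := dvd_add h2 (dvd_refl (p : ℤ))
            ring_nf at h3 ⊢
            exact h3
          refine ⟨1, ?_⟩
          rw [h1, apply_one (isCharacter_of_irr χ.2)]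
          have : ((charDegree (χ : G → ℂ) : ℤ) : ℂ) = (((p : ℤ) - 1 : ℤ) : ℂ) := by rw [h.deg_neg_one χ hd]
          push_cast at this ⊢
          rw [this]
          ring
      choose! k hk using hterm
      rw [← Finset.sum_erase_add _ _ (Finset.mem_univ (oneChar : IrrCharacter G)), Finset.sum_congr rfl hk,
        ← Finset.mul_sum, BrauerReynolds.d_oneChar D one_ne_zero, oneChar_apply] at hrel
      have : (((p : ℤ) - 1) * ∑ χ ∈ Finset.univ.erase oneChar, k χ : ℤ) = 1 := by
        apply Int.cast_injective (α := ℂ)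
        push_cast at hrel ⊢
        linear_combination hrel
      rcases Int.eq_one_or_neg_one_of_mul_eq_one this with h1 | h1 <;> omega
    have htw : ∀ u, D.tw u χ' = χ' := fun u => by
      refine D.ext_of_d (fun g hg => D.tw_regular u χ' hg) fun j ψ => ?_
      rw [Subsingleton.elim ψ D.one]
      by_cases hj : j = 0
      · subst hj; rw [D.d_zero, D.d_zero]
      obtain ⟨i, rfl⟩ : ∃ i, j = (u : ZMod p) * i := ⟨(u : ZMod p)⁻¹ * j, by rw [mul_inv_cancel_left₀ u.ne_zero]⟩
      rw [D.d_tw]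
      have hi : i ≠ 0 := fun h => hj (by rw [h, mul_zero])
      exact hconst χ' (Units.mk0 i hi) (u * Units.mk0 i hi)
    let F : D.Family D.one :=
      { ε := -1
        θ := fun _ => χ'
        sign := Or.inr rfl
        inj := fun a b _ => Subsingleton.elim a b
        d_eq' := fun q a _ => by
          rw [if_pos (Subsingleton.elim _ _)]
          rw [show D.d χ' (a : ZMod p) D.one = D.d χ' 1 D.one from hconst χ' a 1]
          exact hχ'
        tw_eq := fun u q => htw u
        const := fun χ _ => hconst χ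
        d_other := fun q φ' hφ' => absurd (Subsingleton.elim φ' D.one ▸ D.self_mem_orb D.one) hφ' }
    have hmem : oneChar ∈ D.rest F := ⟨D.oneChar_mem_blk, fun ⟨_, he⟩ => hχ'1 he⟩
    exact ⟨F, hmem, hdeg1 F hmem, fun _ => rfl⟩
  · obtain ⟨F⟩ := D.exists_family hM D.one
    have hmem : oneChar ∈ D.rest F := by
      refine ⟨D.oneChar_mem_blk, ?_⟩
      rintro ⟨q, hq⟩
      obtain ⟨a, ha⟩ : ∃ a : (ZMod p)ˣ, q ≠ D.cls D.one a := by
        haveI : Nontrivial (D.Idx D.one) :=
          Fintype.one_lt_card_iff_nontrivial.1 (by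
            rw [D.card_Idx]
            have : (D.U D.one).index ≠ 0 := Subgroup.index_ne_zero_of_finite
            omega)
        obtain ⟨q', hq'⟩ := exists_ne q
        obtain ⟨a, ha⟩ := D.cls_surj D.one q'
        exact ⟨a, ha ▸ hq'.symm⟩
      have h1 := F.d_eq' q a
      rw [if_neg ha, hq, BrauerReynolds.d_oneChar D a.ne_zero] at h1
      omega
    exact ⟨F, hmem, hdeg1 F hmem, fun h1 => absurd h1 ht⟩

/-- The characters of the block of degree `n p + 1`. -/
noncomputable def posSet (F : D.Family D.one) : Finset (IrrCharacter G) := by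
  classical
  haveI : Fintype (IrrCharacter G) := Fintype.ofFinite _
  exact Finset.univ.filter fun χ => χ ∈ D.rest F ∧ χ ≠ oneChar ∧ D.d χ 1 D.one = -1

/-- The characters of the block of degree `p - 1`. -/
noncomputable def negSet (F : D.Family D.one) : Finset (IrrCharacter G) := by
  classical
  haveI : Fintype (IrrCharacter G) := Fintype.ofFinite _
  exact Finset.univ.filter fun χ => χ ∈ D.rest F ∧ D.d χ 1 D.one = 1

/-- The characters outside the block. -/
noncomputable def outSet (D : Data G p) : Finset (IrrCharacter G) := by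
  classical
  haveI : Fintype (IrrCharacter G) := Fintype.ofFinite _
  exact Finset.univ.filter fun χ => χ ∉ D.blk D.one

theorem mem_posSet {F : D.Family D.one} {χ : IrrCharacter G} :
    χ ∈ posSet F ↔ χ ∈ D.rest F ∧ χ ≠ oneChar ∧ D.d χ 1 D.one = -1 := by simp [posSet]

theorem mem_negSet {F : D.Family D.one} {χ : IrrCharacter G} :
    χ ∈ negSet F ↔ χ ∈ D.rest F ∧ D.d χ 1 D.one = 1 := by simp [negSet]

theorem mem_outSet {χ : IrrCharacter G} : χ ∈ outSet D ↔ χ ∉ D.blk D.one := by simp [outSet]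

variable {F : D.Family D.one}

theorem pos_data (h : Few D n) {χ : IrrCharacter G} (hχ : χ ∈ posSet F) :
    charDegree (χ : G → ℂ) = n * p + 1 ∧ fx D χ = n + 1 := by
  obtain ⟨h1, h2, h3⟩ := mem_posSet.1 hχ
  have hS : D.S χ D.one = -((p : ℤ) - 1) := by rw [D.S_rest F h1, h3]; ring
  have hd := h.deg_one χ h2 (by
    have h4 := h.deg_congr_S χ
    rw [hS] at h4
    have h5 := dvd_sub h4 (dvd_refl (p : ℤ))
    ring_nf at h5 ⊢
    exact h5)
  refine ⟨hd, ?_⟩
  have h6 := fx_eq D h.cardV χ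
  rw [hS, hd] at h6
  have h7 : (p : ℤ) * fx D χ = (p : ℤ) * ((n : ℤ) + 1) := by rw [h6]; push_cast; ring
  exact_mod_cast mul_left_cancel₀ (by exact_mod_cast D.hp.ne_zero) h7

theorem neg_data (h : Few D n) {χ : IrrCharacter G} (hχ : χ ∈ negSet F) :
    (charDegree (χ : G → ℂ) : ℤ) = (p : ℤ) - 1 ∧ fx D χ = 0 := by
  obtain ⟨h1, h3⟩ := mem_negSet.1 hχ
  have hS : D.S χ D.one = (p : ℤ) - 1 := by rw [D.S_rest F h1, h3]; ring
  have hd := h.deg_neg_one χ (by
    have h4 := h.deg_congr_S χ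
    rw [hS] at h4
    have h5 := dvd_add h4 (dvd_refl (p : ℤ))
    ring_nf at h5 ⊢
    exact h5)
  refine ⟨hd, ?_⟩
  have h6 := fx_eq D h.cardV χ
  rw [hS, hd, _root_.sub_self] at h6
  have := D.hp.ne_zero
  have h7 := (mul_eq_zero.1 h6).resolve_left (by exact_mod_cast this)
  exact_mod_cast h7

theorem out_data (h : Few D n) {χ : IrrCharacter G} (hχ : χ ∈ outSet D) :
    (charDegree (χ : G → ℂ) : ℤ) = (p : ℤ) * fx D χ ∧ 0 < fx D χ := by
  have h1 := fx_eq D h.cardV χ
  rw [BrauerReynolds.S_outside D (mem_outSet.1 hχ), sub_zero] at h1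
  refine ⟨h1.symm, Nat.pos_of_ne_zero fun e => ?_⟩
  rw [e, Nat.cast_zero, mul_zero] at h1
  have := charDegree_pos χ.2
  omega

theorem split_sum {M : Ideal AlgInt} (hM : IsPModular p M) (hone : oneChar ∈ D.rest F)
    [Fintype (IrrCharacter G)] {R : Type*} [AddCommMonoid R] (φ : IrrCharacter G → R) :
    ∑ χ, φ χ = φ oneChar + ∑ χ ∈ posSet F, φ χ + ∑ χ ∈ negSet F, φ χ + ∑ q, φ (F.θ q) + ∑ χ ∈ outSet D, φ χ := by
  classical
  have hd1 : D.d (oneChar : IrrCharacter G) 1 D.one = -1 := BrauerReynolds.d_oneChar D one_ne_zero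
  have hnot : (oneChar : IrrCharacter G) ∉ posSet F ∪ negSet F := by
    simp only [Finset.mem_union, mem_posSet, mem_negSet, hd1]
    norm_num
  have hdisj : Disjoint (posSet F) (negSet F) := Finset.disjoint_left.2 fun χ h1 h2 => by
    have := (mem_posSet.1 h1).2.2
    have := (mem_negSet.1 h2).2
    omega
  have h1 : Disjoint (insert oneChar (posSet F ∪ negSet F)) (Finset.univ.image F.θ) :=
    Finset.disjoint_left.2 fun χ hχ hq => by
      obtain ⟨q, -, rfl⟩ := Finset.mem_image.1 hq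
      simp only [Finset.mem_insert, Finset.mem_union, mem_posSet, mem_negSet] at hχ
      rcases hχ with hχ | hχ | hχ
      · exact hone.2 ⟨q, hχ⟩
      · exact hχ.1.2 ⟨q, rfl⟩
      · exact hχ.1.2 ⟨q, rfl⟩
  have h2 : Disjoint (insert oneChar (posSet F ∪ negSet F) ∪ Finset.univ.image F.θ) (outSet D) :=
    Finset.disjoint_left.2 fun χ hχ hq => by
      refine mem_outSet.1 hq ?_
      simp only [Finset.mem_insert, Finset.mem_union, mem_posSet, mem_negSet, Finset.mem_image] at hχ
      rcases hχ with (rfl | hχ | hχ) | ⟨q, -, rfl⟩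
      · exact hone.1
      · exact hχ.1.1
      · exact hχ.1.1
      · exact D.theta_mem_blk F q
  have hu : (Finset.univ : Finset (IrrCharacter G)) =
      insert oneChar (posSet F ∪ negSet F) ∪ Finset.univ.image F.θ ∪ outSet D := by
    ext χ
    simp only [Finset.mem_insert, Finset.mem_union, Finset.mem_univ, true_iff, mem_posSet, mem_negSet, mem_outSet,
      Finset.mem_image, true_and]
    by_cases hb : χ ∈ D.blk D.one
    · by_cases hq : χ ∈ Set.range F.θ
      · obtain ⟨q, hq⟩ := hq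
        exact Or.inl (Or.inr ⟨q, hq⟩)
      · by_cases h3 : χ = oneChar
        · exact Or.inl (Or.inl (Or.inl h3))
        · rcases D.rest_d hM F ⟨hb, hq⟩ with h4 | h4
          · exact Or.inl (Or.inl (Or.inr (Or.inr ⟨⟨hb, hq⟩, h4⟩)))
          · exact Or.inl (Or.inl (Or.inr (Or.inl ⟨⟨hb, hq⟩, h3, h4⟩)))
    · exact Or.inr hb
  rw [hu, Finset.sum_union h2, Finset.sum_union h1, Finset.sum_insert hnot, Finset.sum_union hdisj,
    Finset.sum_image fun q _ q' _ hqq => F.inj hqq]
  abel

theorem card_sets {M : Ideal AlgInt} (hM : IsPModular p M) (h : Few D n) (hone : oneChar ∈ D.rest F) :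
    1 + (posSet F).card + (negSet F).card = Nat.card D.H := by
  classical
  haveI : Fintype (IrrCharacter G) := Fintype.ofFinite _
  have h1 := split_sum hM hone (fun χ => if χ ∈ D.rest F then 1 else 0)
  rw [Finset.sum_boole, if_pos hone, Finset.sum_congr rfl (s₁ := posSet F) (g := fun _ => 1) (fun χ hχ =>
      if_pos (mem_posSet.1 hχ).1),
    Finset.sum_congr rfl (s₁ := negSet F) (g := fun _ => 1) (fun χ hχ => if_pos (mem_negSet.1 hχ).1),
    Finset.sum_eq_zero (s := (Finset.univ : Finset (D.Idx D.one))) (fun q _ => if_neg fun hq => hq.2 ⟨q, rfl⟩),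
    Finset.sum_eq_zero (s := outSet D) (fun χ hχ => if_neg fun hq => mem_outSet.1 hχ hq.1),
    Finset.sum_const, Finset.sum_const] at h1
  rw [← h.index_eq, ← D.card_U_one, ← D.card_rest hM F, Nat.card_eq_fintype_card, Fintype.card_subtype]
  simp only [Nat.cast_id, smul_eq_mul, mul_one, add_zero] at h1
  exact h1.symm

theorem relation {M : Ideal AlgInt} (hM : IsPModular p M) (hone : oneChar ∈ D.rest F) {g : G}
    (hg : ¬ p ∣ orderOf g) :
    (F.ε : ℂ) * (F.θ 1 : G → ℂ) g =
      1 + ∑ χ ∈ posSet F, (χ : G → ℂ) g - ∑ χ ∈ negSet F, (χ : G → ℂ) g := by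
  classical
  haveI : Fintype (IrrCharacter G) := Fintype.ofFinite _
  have h1 := D.regular_relation F 1 (g := g) hg
  have h2 := split_sum hM hone (fun χ => if χ ∈ D.rest F then (D.d χ 1 D.one : ℂ) * (χ : G → ℂ) g else 0)
  rw [← Finset.sum_filter, if_pos hone, BrauerReynolds.d_oneChar D one_ne_zero, oneChar_apply,
    Finset.sum_congr rfl (s₁ := posSet F) (g := fun χ => -(χ : G → ℂ) g) (fun χ hχ => by
      rw [if_pos (mem_posSet.1 hχ).1, (mem_posSet.1 hχ).2.2]; simp),
    Finset.sum_congr rfl (s₁ := negSet F) (g := fun χ => (χ : G → ℂ) g) (fun χ hχ => by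
      rw [if_pos (mem_negSet.1 hχ).1, (mem_negSet.1 hχ).2]; simp),
    Finset.sum_eq_zero (s := (Finset.univ : Finset (D.Idx D.one))) (fun q _ => if_neg fun hq => hq.2 ⟨q, rfl⟩),
    Finset.sum_eq_zero (s := outSet D) (fun χ hχ => if_neg fun hq => mem_outSet.1 hχ hq.1),
    Finset.sum_neg_distrib] at h2
  rw [finsum_mem_eq_sum_of_subset (t := Finset.univ.filter fun χ => χ ∈ D.rest F) _ (fun χ hχ => by simpa using hχ.1)
    (fun χ hχ => (Finset.mem_filter.1 hχ).2), h2] at h1
  push_cast at h1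
  linear_combination h1

/-- What is known about the block. -/
structure Shape (D : Data G p) (n : ℕ) (F : D.Family D.one) (r : ℕ) : Prop where
  one_mem : oneChar ∈ D.rest F
  cases : F.ε = 1 ∧ r = 0 ∧ 2 ≤ (D.U D.one).index ∨ F.ε = -1 ∧ 1 ≤ r ∧ n + 1 = r * (D.U D.one).index
  deg_theta : ∀ q, (F.ε : ℤ) * charDegree (F.θ q : G → ℂ) = Nat.card D.H - (r : ℤ) * p
  fx_theta : ∀ q, fx D (F.θ q) = r
  mu_theta : ∀ q, mu D (F.θ q) = 0
  count : ((posSet F).card : ℤ) * n + r = (negSet F).card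
  mu_pos : ∀ χ ∈ posSet F, mu D χ = 0
  mu_out : ∀ χ ∈ outSet D, mu D χ = fx D χ
  sum_out : ∑ χ ∈ outSet D, fx D χ ^ 2 = n

theorem theta_deg_eq (q : D.Idx D.one) :
    charDegree (F.θ q : G → ℂ) = charDegree (F.θ 1 : G → ℂ) := by
  have h1 := D.theta_regular F q (g := 1) (by rw [orderOf_one]; exact D.hp.not_dvd_one)
  rw [apply_one (isCharacter_of_irr (F.θ q).2), apply_one (isCharacter_of_irr (F.θ 1).2)] at h1
  exact_mod_cast h1

theorem theta_S (h : Few D n) (q : D.Idx D.one) : D.S (F.θ q) D.one = F.ε * Nat.card D.H := by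
  rw [D.S_theta, D.card_U_one, h.index_eq]

theorem regular_H (g : D.H) : ¬ p ∣ orderOf (g : G) := by
  rw [Subgroup.orderOf_coe]
  exact fun hd => D.hHp (hd.trans (orderOf_dvd_natCard g))

theorem theta_fx_eq (h : Few D n) (q : D.Idx D.one) : fx D (F.θ q) = fx D (F.θ 1) := by
  have h1 := fx_eq D h.cardV (F.θ q)
  rw [theta_S h, theta_deg_eq, ← theta_S h 1, ← fx_eq D h.cardV] at h1
  exact_mod_cast mul_left_cancel₀ (by exact_mod_cast D.hp.ne_zero) h1

theorem theta_mu_eq (h : Few D n) (q : D.Idx D.one) : mu D (F.θ q) = mu D (F.θ 1) := by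
  have hK := sum_apply_H D h.cardV (F.θ q)
  rw [Finset.sum_congr rfl (fun g _ => D.theta_regular F q (regular_H g)), sum_apply_H D h.cardV (F.θ 1),
    theta_deg_eq q, theta_fx_eq h q, add_right_inj, mul_right_inj' (Nat.cast_ne_zero.2 Nat.card_pos.ne')] at hK
  exact_mod_cast hK.symm

/-- The relation between the fixed multiplicities. -/
theorem mu_relation {M : Ideal AlgInt} (hM : IsPModular p M) (h : Few D n) (hone : oneChar ∈ D.rest F) :
    (F.ε : ℤ) * mu D (F.θ 1) = ∑ χ ∈ posSet F, (mu D χ : ℤ) := by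
  classical
  have hp1 : (1 : ℕ) ≤ p := D.hp.one_le
  have h1 : ∑ g : D.H, (F.ε : ℂ) * (F.θ 1 : G → ℂ) (g : G) = ∑ g : D.H,
      (1 + ∑ χ ∈ posSet F, (χ : G → ℂ) (g : G) - ∑ χ ∈ negSet F, (χ : G → ℂ) (g : G)) :=
    Finset.sum_congr rfl fun g _ => relation hM hone (regular_H g)
  rw [← Finset.mul_sum, sum_apply_H D h.cardV, Finset.sum_sub_distrib, Finset.sum_add_distrib, Finset.sum_const,
    Finset.card_univ, ← Nat.card_eq_fintype_card, nsmul_eq_mul, mul_one, Finset.sum_comm,
    Finset.sum_congr rfl (s₁ := posSet F) (fun χ hχ => by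
      rw [sum_apply_H D h.cardV χ, (pos_data h hχ).1, (pos_data h hχ).2]),
    Finset.sum_comm (s := Finset.univ) (t := negSet F),
    Finset.sum_congr rfl (s₁ := negSet F) (g := fun _ => (p : ℂ) - 1) (fun χ hχ => by
      have h2 := mu_le D χ
      rw [(neg_data h hχ).2, Nat.le_zero] at h2
      rw [sum_apply_H D h.cardV χ, (neg_data h hχ).2, h2, ← Int.cast_natCast (charDegree (χ : G → ℂ)),
        (neg_data h hχ).1]
      push_cast; ring),
    Finset.sum_add_distrib, ← Finset.mul_sum, Finset.sum_const, Finset.sum_const, nsmul_eq_mul, nsmul_eq_mul] at h1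
  have h2 := fx_eq D h.cardV (F.θ 1)
  rw [theta_S h] at h2
  have h3 := relation hM hone (g := (1 : G)) (by rw [orderOf_one]; exact D.hp.not_dvd_one)
  rw [apply_one (isCharacter_of_irr (F.θ 1).2),
    Finset.sum_congr rfl (s₁ := posSet F) (g := fun _ => (((n * p + 1 : ℕ)) : ℂ)) (fun χ hχ => by
      rw [apply_one (isCharacter_of_irr χ.2), (pos_data h hχ).1]),
    Finset.sum_congr rfl (s₁ := negSet F) (g := fun _ => (p : ℂ) - 1) (fun χ hχ => by
      rw [apply_one (isCharacter_of_irr χ.2), ← Int.cast_natCast (charDegree (χ : G → ℂ)), (neg_data h hχ).1]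
      push_cast; ring),
    Finset.sum_const, Finset.sum_const, nsmul_eq_mul, nsmul_eq_mul] at h3
  have h2c : (p : ℂ) * fx D (F.θ 1) = (charDegree (F.θ 1 : G → ℂ) : ℂ) - (F.ε : ℂ) * Nat.card D.H := by
    have := congrArg (fun z : ℤ => (z : ℂ)) h2
    push_cast at this
    exact this
  have hsum := card_sets hM h hone
  have hsumc : 1 + ((posSet F).card : ℂ) + (negSet F).card = (Nat.card D.H : ℂ) := by exact_mod_cast hsum
  have hεε : (F.ε : ℂ) * F.ε = 1 := by rcases F.sign with e | e <;> rw [e] <;> norm_num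
  have het : (Nat.card D.H : ℂ) * (D.U D.one).index = (p : ℂ) - 1 := by
    have e : ((Nat.card D.H * (D.U D.one).index : ℕ) : ℂ) = ((p - 1 : ℕ) : ℂ) := by rw [h.card_mul_index]
    rw [Nat.cast_mul, Nat.cast_sub hp1, Nat.cast_one] at e
    exact e
  have hq : (F.ε : ℂ) * fx D (F.θ 1) = ((posSet F).card : ℂ) * n - (negSet F).card := by
    refine mul_left_cancel₀ (Nat.cast_ne_zero.2 D.hp.ne_zero : (p : ℂ) ≠ 0) ?_
    push_cast at h3
    linear_combination (F.ε : ℂ) * h2c + h3 + hsumc - (Nat.card D.H : ℂ) * hεε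
  apply Int.cast_injective (α := ℂ)
  push_cast at h1 h3 ⊢
  refine mul_left_cancel₀ (Nat.cast_ne_zero.2 Nat.card_pos.ne' : (Nat.card D.H : ℂ) ≠ 0) ?_
  linear_combination h1 - h3 + hq - hsumc

/-- The sums of the squares of the degrees and of the degrees times the sums over `H`. -/
theorem sums {M : Ideal AlgInt} (hM : IsPModular p M) (h : Few D n) (hone : oneChar ∈ D.rest F) {q : ℤ}
    (hq : q = ((posSet F).card : ℤ) * n - (negSet F).card) (hμp : ∀ χ ∈ posSet F, mu D χ = 0)
    (hμθ : mu D (F.θ 1) = 0) :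
    (∑ χ ∈ outSet D, (fx D χ : ℤ) ^ 2 = n * (1 - q) - q - (D.U D.one).index * q ^ 2) ∧
      ∑ χ ∈ outSet D, (fx D χ : ℤ) * mu D χ = n := by
  classical
  haveI : Fintype (IrrCharacter G) := Fintype.ofFinite _
  set a := (posSet F).card with ha
  set b := (negSet F).card with hb
  set t := (D.U D.one).index with htdef
  set e := Nat.card D.H with hedef
  have hsum : 1 + (a : ℤ) + b = e := by exact_mod_cast card_sets hM h hone
  have het : (e : ℤ) * t = (p : ℤ) - 1 := by
    have e' : ((e * t : ℕ) : ℤ) = ((p - 1 : ℕ) : ℤ) := by rw [h.card_mul_index]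
    rw [Nat.cast_mul, Nat.cast_sub D.hp.one_le, Nat.cast_one] at e'
    exact e'
  have hεε : F.ε * F.ε = 1 := by rcases F.sign with e | e <;> rw [e] <;> norm_num
  have hf : (F.ε : ℤ) * charDegree (F.θ 1 : G → ℂ) = (e : ℤ) + q * p := by
    have h3 := relation hM hone (g := (1 : G)) (by rw [orderOf_one]; exact D.hp.not_dvd_one)
    rw [apply_one (isCharacter_of_irr (F.θ 1).2),
      Finset.sum_congr rfl (s₁ := posSet F) (g := fun _ => (((n * p + 1 : ℕ)) : ℂ)) (fun χ hχ => by
        rw [apply_one (isCharacter_of_irr χ.2), (pos_data h hχ).1]),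
      Finset.sum_congr rfl (s₁ := negSet F) (g := fun _ => (p : ℂ) - 1) (fun χ hχ => by
        rw [apply_one (isCharacter_of_irr χ.2), ← Int.cast_natCast (charDegree (χ : G → ℂ)), (neg_data h hχ).1]
        push_cast; ring),
      Finset.sum_const, Finset.sum_const, nsmul_eq_mul, nsmul_eq_mul] at h3
    have h3' : (F.ε : ℤ) * charDegree (F.θ 1 : G → ℂ) = 1 + (a : ℤ) * (n * p + 1) - (b : ℤ) * (p - 1) := by
      apply Int.cast_injective (α := ℂ)
      push_cast at h3 ⊢
      exact h3
    rw [h3', hq, ← hsum]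
    ring
  have hfx : (F.ε : ℤ) * fx D (F.θ 1) = q := by
    have h2 := fx_eq D h.cardV (F.θ 1)
    rw [theta_S h] at h2
    refine mul_left_cancel₀ (show (p : ℤ) ≠ 0 by exact_mod_cast D.hp.ne_zero) ?_
    linear_combination F.ε * h2 + hf - (e : ℤ) * hεε
  have hf' : (charDegree (F.θ 1 : G → ℂ) : ℤ) = F.ε * ((e : ℤ) + q * p) := by
    linear_combination F.ε * hf - (charDegree (F.θ 1 : G → ℂ) : ℤ) * hεε
  have hfx' : (fx D (F.θ 1) : ℤ) = F.ε * q := by
    linear_combination F.ε * hfx - (fx D (F.θ 1) : ℤ) * hεε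
  have hcG : (Nat.card G : ℤ) = p * (e * (n * p + 1)) := by
    rw [h.card_eq]; push_cast; rfl
  have hsq : ∑ χ ∈ outSet D, (fx D χ : ℤ) ^ 2 = n * (1 - q) - q - t * q ^ 2 := by
    have h1 : ∑ χ : IrrCharacter G, (charDegree (χ : G → ℂ) : ℤ) ^ 2 = Nat.card G := by
      exact_mod_cast sum_sq_degree (G := G)
    rw [split_sum hM hone, Finset.sum_congr rfl (s₁ := posSet F) (g := fun _ => ((n : ℤ) * p + 1) ^ 2) (fun χ hχ => by
        rw [(pos_data h hχ).1]; push_cast; rfl),
      Finset.sum_congr rfl (s₁ := negSet F) (g := fun _ => ((p : ℤ) - 1) ^ 2) (fun χ hχ => by rw [(neg_data h hχ).1]),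
      Finset.sum_congr rfl (s₁ := (Finset.univ : Finset (D.Idx D.one))) (g := fun _ => ((e : ℤ) + q * p) ^ 2)
        (fun x _ => by rw [theta_deg_eq, hf', mul_pow, sq F.ε, hεε, one_mul]),
      Finset.sum_congr rfl (s₁ := outSet D) (g := fun χ => (p : ℤ) ^ 2 * (fx D χ : ℤ) ^ 2) (fun χ hχ => by
        rw [(out_data h hχ).1]; ring),
      Finset.sum_const, Finset.sum_const, Finset.sum_const, Finset.card_univ, D.card_Idx, ← htdef, ← Finset.mul_sum,
      nsmul_eq_mul, nsmul_eq_mul, nsmul_eq_mul, hcG,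
      show (charDegree ((oneChar : IrrCharacter G) : G → ℂ) : ℤ) = 1 by
        have h1 := apply_one (isCharacter_of_irr (oneChar : IrrCharacter G).2)
        rw [oneChar_apply] at h1
        exact_mod_cast h1.symm] at h1
    refine mul_left_cancel₀ (show (p : ℤ) ^ 2 ≠ 0 by exact pow_ne_zero _ (by exact_mod_cast D.hp.ne_zero)) ?_
    subst hq
    push_cast at h1 ⊢
    rw [← ha, ← hb] at h1
    linear_combination h1 - ((e : ℤ) + 2 * ((a : ℤ) * n - b) * p) * het - ((p : ℤ) ^ 2 * n + 1) * hsum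
  refine ⟨hsq, ?_⟩
  have hcol : ∑ χ : IrrCharacter G, (charDegree (χ : G → ℂ) : ℂ) * ∑ g : D.H, (χ : G → ℂ) (g : G) =
      (Nat.card G : ℂ) := by
    simp only [Finset.mul_sum]
    rw [Finset.sum_comm, Finset.sum_eq_single (1 : D.H) (fun g _ hg => sum_mul_degree (fun e' => hg (Subtype.ext e')))
      (fun h' => absurd (Finset.mem_univ _) h')]
    have h1 : ∑ χ : IrrCharacter G, (charDegree (χ : G → ℂ) : ℂ) ^ 2 = Nat.card G := by
      exact_mod_cast sum_sq_degree (G := G)
    rw [← h1]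
    exact Finset.sum_congr rfl fun χ _ => by rw [OneMemClass.coe_one, apply_one (isCharacter_of_irr χ.2), sq]
  have hK : ∀ χ : IrrCharacter G, (charDegree (χ : G → ℂ) : ℂ) * ∑ g : D.H, (χ : G → ℂ) (g : G) =
      (((charDegree (χ : G → ℂ) : ℤ) * ((charDegree (χ : G → ℂ) : ℤ) - fx D χ + e * mu D χ) : ℤ) : ℂ) :=
    fun χ => by rw [sum_apply_H D h.cardV]; push_cast; rfl
  rw [Finset.sum_congr rfl fun χ _ => hK χ, ← Int.cast_sum, ← Int.cast_natCast (Nat.card G)] at hcol
  have h2 := Int.cast_injective hcol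
  have h1K : (charDegree ((oneChar : IrrCharacter G) : G → ℂ) : ℤ) *
      ((charDegree ((oneChar : IrrCharacter G) : G → ℂ) : ℤ) - fx D oneChar + e * mu D oneChar) = e := by
    apply Int.cast_injective (α := ℂ)
    rw [← hK]
    simp only [oneChar_apply, Finset.sum_const, Finset.card_univ, ← Nat.card_eq_fintype_card, ← hedef]
    have h1 := apply_one (isCharacter_of_irr (oneChar : IrrCharacter G).2)
    rw [oneChar_apply] at h1
    rw [← h1]
    simp
  rw [split_sum hM hone, h1K,
    Finset.sum_congr rfl (s₁ := posSet F) (g := fun _ => ((n : ℤ) * p + 1) * ((n : ℤ) * p + 1 - (n + 1)))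
      (fun χ hχ => by rw [(pos_data h hχ).1, (pos_data h hχ).2, hμp χ hχ]; push_cast; ring),
    Finset.sum_congr rfl (s₁ := negSet F) (g := fun _ => ((p : ℤ) - 1) ^ 2) (fun χ hχ => by
      have h4 := mu_le D χ
      rw [(neg_data h hχ).2, Nat.le_zero] at h4
      rw [(neg_data h hχ).1, (neg_data h hχ).2, h4]; push_cast; ring),
    Finset.sum_congr rfl (s₁ := (Finset.univ : Finset (D.Idx D.one)))
      (g := fun _ => ((e : ℤ) + q * p) * ((e : ℤ) + q * p - q)) (fun x _ => by
        rw [theta_deg_eq, theta_fx_eq h x, theta_mu_eq h x, hμθ, hf', hfx']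
        linear_combination (((e : ℤ) + q * p) * ((e : ℤ) + q * p - q)) * hεε),
    Finset.sum_congr rfl (s₁ := outSet D)
      (g := fun χ => (p : ℤ) * ((p - 1) * (fx D χ : ℤ) ^ 2 + e * ((fx D χ : ℤ) * mu D χ))) (fun χ hχ => by
        rw [(out_data h hχ).1]; ring),
    Finset.sum_const, Finset.sum_const, Finset.sum_const, Finset.card_univ, D.card_Idx, ← htdef, ← Finset.mul_sum,
    Finset.sum_add_distrib, ← Finset.mul_sum, ← Finset.mul_sum, hsq,
    nsmul_eq_mul, nsmul_eq_mul, nsmul_eq_mul, hcG] at h2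
  refine mul_left_cancel₀ (show (p : ℤ) * e ≠ 0 from mul_ne_zero (by exact_mod_cast D.hp.ne_zero)
    (by exact_mod_cast Nat.card_pos.ne')) ?_
  subst hq
  push_cast at h2 ⊢
  rw [← ha, ← hb] at h2
  linear_combination h2 - ((e : ℤ) + ((a : ℤ) * n - b) * (2 * (p : ℤ) - 1)) * het -
    ((p : ℤ) - 1) * p * n * hsum

theorem Few.shape (h : Few D n) {M : Ideal AlgInt} (hM : IsPModular p M) :
    ∃ (F : D.Family D.one) (r : ℕ), Shape D n F r := by
  classical
  obtain ⟨F, hone, hf1, hidx⟩ := h.exists_family hM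
  set a := (posSet F).card with ha
  set b := (negSet F).card with hb
  set t := (D.U D.one).index with htdef
  set e := Nat.card D.H with hedef
  have hμr := mu_relation hM h hone
  have hsum : 1 + (a : ℤ) + b = e := by exact_mod_cast card_sets hM h hone
  have hεε : F.ε * F.ε = 1 := by rcases F.sign with e | e <;> rw [e] <;> norm_num
  have h2 := fx_eq D h.cardV (F.θ 1)
  rw [theta_S h] at h2
  have h3 := relation hM hone (g := (1 : G)) (by rw [orderOf_one]; exact D.hp.not_dvd_one)
  rw [apply_one (isCharacter_of_irr (F.θ 1).2),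
    Finset.sum_congr rfl (s₁ := posSet F) (g := fun _ => (((n * p + 1 : ℕ)) : ℂ)) (fun χ hχ => by
      rw [apply_one (isCharacter_of_irr χ.2), (pos_data h hχ).1]),
    Finset.sum_congr rfl (s₁ := negSet F) (g := fun _ => (p : ℂ) - 1) (fun χ hχ => by
      rw [apply_one (isCharacter_of_irr χ.2), ← Int.cast_natCast (charDegree (χ : G → ℂ)), (neg_data h hχ).1]
      push_cast; ring),
    Finset.sum_const, Finset.sum_const, nsmul_eq_mul, nsmul_eq_mul] at h3
  have h3' : (F.ε : ℤ) * charDegree (F.θ 1 : G → ℂ) = 1 + (a : ℤ) * (n * p + 1) - (b : ℤ) * (p - 1) := by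
    apply Int.cast_injective (α := ℂ)
    push_cast at h3 ⊢
    exact h3
  have hfx : (F.ε : ℤ) * fx D (F.θ 1) = (a : ℤ) * n - b := by
    refine mul_left_cancel₀ (show (p : ℤ) ≠ 0 by exact_mod_cast D.hp.ne_zero) ?_
    linear_combination F.ε * h2 + h3' + hsum - (e : ℤ) * hεε
  have hμθ : mu D (F.θ 1) = 0 := by
    rcases F.sign with hs | hs
    · rw [hs, one_mul] at hfx
      have h4 := mu_le D (F.θ 1)
      by_contra hne
      have h5 : (0 : ℤ) < (a : ℤ) * n - b := by rw [← hfx]; exact_mod_cast (by omega : 0 < fx D (F.θ 1))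
      -- the sum of squares excludes this
      have hμp0 : ∀ q : ℤ, 0 < q → ¬ (0 : ℤ) ≤ (n : ℤ) * (1 - q) - q - t * q ^ 2 := fun q hq => by
        have : (0 : ℤ) ≤ t * q ^ 2 := mul_nonneg (Int.natCast_nonneg _) (sq_nonneg q)
        nlinarith
      haveI : Fintype (IrrCharacter G) := Fintype.ofFinite _
      have h1 : ∑ χ : IrrCharacter G, (charDegree (χ : G → ℂ) : ℤ) ^ 2 = Nat.card G := by
        exact_mod_cast sum_sq_degree (G := G)
      have hout : 0 ≤ ∑ χ ∈ outSet D, (charDegree (χ : G → ℂ) : ℤ) ^ 2 :=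
        Finset.sum_nonneg fun _ _ => sq_nonneg _
      have het : (e : ℤ) * t = (p : ℤ) - 1 := by
        have e' : ((e * t : ℕ) : ℤ) = ((p - 1 : ℕ) : ℤ) := by rw [h.card_mul_index]
        rw [Nat.cast_mul, Nat.cast_sub D.hp.one_le, Nat.cast_one] at e'
        exact e'
      rw [hs, one_mul] at h3'
      rw [split_sum hM hone, Finset.sum_congr rfl (s₁ := posSet F) (g := fun _ => ((n : ℤ) * p + 1) ^ 2)
          (fun χ hχ => by rw [(pos_data h hχ).1]; push_cast; rfl),
        Finset.sum_congr rfl (s₁ := negSet F) (g := fun _ => ((p : ℤ) - 1) ^ 2)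
          (fun χ hχ => by rw [(neg_data h hχ).1]),
        Finset.sum_congr rfl (s₁ := (Finset.univ : Finset (D.Idx D.one)))
          (g := fun _ => ((e : ℤ) + ((a : ℤ) * n - b) * p) ^ 2)
          (fun x _ => by rw [theta_deg_eq, h3', ← hsum]; ring),
        Finset.sum_const, Finset.sum_const, Finset.sum_const, Finset.card_univ, D.card_Idx, ← htdef,
        nsmul_eq_mul, nsmul_eq_mul, nsmul_eq_mul, h.card_eq,
        show (charDegree ((oneChar : IrrCharacter G) : G → ℂ) : ℤ) = 1 by
          have h1 := apply_one (isCharacter_of_irr (oneChar : IrrCharacter G).2)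
          rw [oneChar_apply] at h1
          exact_mod_cast h1.symm] at h1
      push_cast at h1
      have h6 : ∑ χ ∈ outSet D, (charDegree (χ : G → ℂ) : ℤ) ^ 2 =
          (p : ℤ) ^ 2 * ((n : ℤ) * (1 - ((a : ℤ) * n - b)) - ((a : ℤ) * n - b) - t * ((a : ℤ) * n - b) ^ 2) := by
        rw [← ha, ← hb, ← hedef] at h1
        linear_combination h1 - ((e : ℤ) + 2 * ((a : ℤ) * n - b) * p) * het - ((p : ℤ) ^ 2 * n + 1) * hsum
      have hp0 : (0 : ℤ) < (p : ℤ) ^ 2 := pow_pos (by exact_mod_cast D.hp.pos) 2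
      exact hμp0 _ h5 (nonneg_of_mul_nonneg_right (h6 ▸ hout) hp0)
    · rw [hs] at hμr
      have h5 : (0 : ℤ) ≤ ∑ χ ∈ posSet F, (mu D χ : ℤ) := Finset.sum_nonneg fun _ _ => Int.natCast_nonneg _
      omega
  have hμp : ∀ χ ∈ posSet F, mu D χ = 0 := by
    rw [hμθ, Nat.cast_zero, mul_zero] at hμr
    intro χ hχ
    exact_mod_cast (Finset.sum_eq_zero_iff_of_nonneg fun _ _ => Int.natCast_nonneg _).1 hμr.symm χ hχ
  obtain ⟨hsq, hfm⟩ := sums hM h hone rfl hμp hμθ
  have hsq0 : (0 : ℤ) ≤ ∑ χ ∈ outSet D, (fx D χ : ℤ) ^ 2 := Finset.sum_nonneg fun _ _ => sq_nonneg _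
  have hp3 := h.three_le
  have he2 := h.two_le_e
  have het : (e : ℤ) * t = (p : ℤ) - 1 := by
    have e' : ((e * t : ℕ) : ℤ) = ((p - 1 : ℕ) : ℤ) := by rw [h.card_mul_index]
    rw [Nat.cast_mul, Nat.cast_sub D.hp.one_le, Nat.cast_one] at e'
    exact e'
  set r := fx D (F.θ 1) with hr
  have key : (F.ε = 1 ∧ r = 0 ∧ 2 ≤ t ∨ F.ε = -1 ∧ 1 ≤ r ∧ n + 1 = r * t) ∧ (a : ℤ) * n + r = b := by
    rcases F.sign with hs | hs
    · rw [hs, one_mul] at hfx
      have hr0 : r = 0 := by
        by_contra hne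
        have h5 : (0 : ℤ) < (a : ℤ) * n - b := by rw [← hfx]; exact_mod_cast Nat.pos_of_ne_zero hne
        have : (0 : ℤ) ≤ t * ((a : ℤ) * n - b) ^ 2 := mul_nonneg (Int.natCast_nonneg _) (sq_nonneg _)
        rw [hsq] at hsq0
        nlinarith
      refine ⟨Or.inl ⟨hs, hr0, ?_⟩, ?_⟩
      · by_contra hlt
        have : 0 < t := Nat.pos_of_ne_zero Subgroup.index_ne_zero_of_finite
        have := hidx (by omega)
        omega
      · rw [hr0] at hfx ⊢; push_cast at hfx ⊢; linarith
    · rw [hs] at hfx h2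
      have hcount : (a : ℤ) * n + r = b := by linarith
      have hf : (charDegree (F.θ 1 : G → ℂ) : ℤ) = (r : ℤ) * p - e := by linarith
      have hr1 : 1 ≤ r := by
        by_contra h0
        rw [show r = 0 by omega] at hf
        have := charDegree_pos (F.θ 1).2
        omega
      refine ⟨Or.inr ⟨hs, hr1, ?_⟩, hcount⟩
      obtain ⟨c, hc⟩ := h.cofactor (F.θ 1) (D.not_dvd_deg_blk hM (D.theta_mem_blk F 1))
      have := exceptional_param (p := p) (e := e) (t := t) (n := n) (r := r) (c := c) (by omega)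
        (by exact_mod_cast he2) het h.noF (by exact_mod_cast hr1)
        (by rw [← hf]; exact_mod_cast hc) (by have := h.two_le; omega) (fun e1 => hf1 (by
          rw [← hf] at e1; exact_mod_cast e1))
      exact_mod_cast this
  obtain ⟨hcases, hcount⟩ := key
  have hn : ∑ χ ∈ outSet D, (fx D χ : ℤ) ^ 2 = n := by
    rw [hsq, show (a : ℤ) * n - b = -(r : ℤ) by linarith]
    rcases hcases with ⟨-, hr0, -⟩ | ⟨-, -, hrt⟩
    · rw [hr0]; ring
    · have : (n : ℤ) + 1 = r * t := by exact_mod_cast hrt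
      linear_combination (r : ℤ) * this
  refine ⟨F, r, hone, hcases, fun x => ?_, fun x => theta_fx_eq h x, fun x => (theta_mu_eq h x).trans hμθ, hcount,
    hμp, fun χ hχ => ?_, by exact_mod_cast hn⟩
  · rw [theta_deg_eq, h3']
    linear_combination (p : ℤ) * hcount + hsum
  · have hzero : ∑ ψ ∈ outSet D, (fx D ψ : ℤ) * ((fx D ψ : ℤ) - mu D ψ) = 0 := by
      simp only [mul_sub, ← sq, Finset.sum_sub_distrib, hn, hfm, _root_.sub_self]
    have h1 := (Finset.sum_eq_zero_iff_of_nonneg fun ψ _ => mul_nonneg (Int.natCast_nonneg _)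
      (sub_nonneg.2 (by exact_mod_cast mu_le D ψ))).1 hzero χ hχ
    have h2 := (mul_eq_zero.1 h1).resolve_left (by exact_mod_cast (out_data h hχ).2.ne')
    omega

end CfsgLib.BrauerFew
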