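import Mathlib
import Cfsg.Agent.BrauerFew.Block
import Cfsg.Agent.WielandtTwoP.RankFour

/-!
The two shapes of the principal block which would give a group of order at least `p ^ 3` do not occur.
-/

set_option autoImplicit false
set_option linter.style.haveILetI false
set_option linter.unusedSectionVars false

namespace CfsgLib.BrauerFew

open Cfsg CfsgLib.CharBasics CfsgLib.DefectOne
open scoped ComplexConjugate

universe u

variable {G : Type u} [Group G] [Fintype G] {p : ℕ} [Fact p.Prime] {D : Data G p} {n r : ℕ} {F : D.Family D.one}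

theorem eq_of_order_two (hV : Nat.card D.V = 1) {z h : D.H} (hz : orderOf z = 2) (hh : orderOf h = 2) : h = z := by
  have hinj : Function.Injective D.rHom := by
    rw [← MonoidHom.ker_eq_bot_iff, D.ker_rHom]
    exact Subgroup.eq_bot_of_card_eq _ hV
  have key : ∀ g : D.H, orderOf g = 2 → (D.rHom g : ZMod p) = -1 := by
    intro g hg
    have h1 : (D.rHom g : ZMod p) * (D.rHom g : ZMod p) = 1 := by
      rw [← Units.val_mul, ← map_mul, ← sq, ← hg, pow_orderOf_eq_one, map_one, Units.val_one]
    rcases mul_self_eq_one_iff.1 h1 with h2 | h2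
    · exfalso
      have : g = 1 := hinj (by rw [map_one]; exact Units.ext (by rw [h2, Units.val_one]))
      rw [this, orderOf_one] at hg
      omega
    · exact h2
  exact hinj (Units.ext (by rw [key h hh, key z hz]))

set_option maxHeartbeats 1600000 in
theorem no_neg {M : Ideal AlgInt} (hM : IsPModular p M) (h : Few D n) (hS : Shape D n F r) (hε : F.ε = -1)
    (hr : 2 ≤ r) (hrt : n + 1 = r * (D.U D.one).index) : False := by
  classical
  haveI : Fintype (IrrCharacter G) := Fintype.ofFinite _
  have hp3 := h.three_le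
  set e := Nat.card D.H with hedef
  set t := (D.U D.one).index with htdef
  have het : e * t = p - 1 := h.card_mul_index
  have hodd : p % 2 = 1 := Nat.odd_iff.1 (D.hp.odd_of_ne_two (by omega))
  haveI : Fact (Nat.Prime 2) := ⟨Nat.prime_two⟩
  obtain ⟨z, hz, hzH⟩ : ∃ z : G, orderOf z = 2 ∧ (2 ∣ e → z ∈ D.H) := by
    by_cases he : 2 ∣ e
    · obtain ⟨z, hz⟩ := exists_prime_orderOf_dvd_card' 2 (hedef ▸ he)
      exact ⟨z, by rw [Subgroup.orderOf_coe, hz], fun _ => z.2⟩
    · have ht : 2 ∣ t := by
        have h1 : 2 ∣ e * t := by rw [het]; omega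
        exact (Nat.prime_two.dvd_mul.1 h1).resolve_left he
      have hN : 2 ∣ n * p + 1 := by
        obtain ⟨k, hk⟩ := ht
        have hn : n % 2 = 1 := by
          rw [hk, mul_left_comm] at hrt
          omega
        rw [Nat.dvd_iff_mod_eq_zero, Nat.add_mod, Nat.mul_mod, hn, hodd]
      obtain ⟨z, hz⟩ := exists_prime_orderOf_dvd_card' (G := G) 2
        (by rw [h.card_eq]; exact (hN.mul_left _).mul_left _)
      exact ⟨z, hz, fun h' => absurd h' he⟩
  have hz1 : z ≠ 1 := fun e' => by rw [e', orderOf_one] at hz; omega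
  have hzreg : ¬ p ∣ orderOf z := by
    rw [hz]; intro hd
    have := Nat.le_of_dvd (by norm_num) hd
    omega
  choose u hu hpar using fun χ : IrrCharacter G => exists_parity (isCharacter_of_irr χ.2) hz
  set A := ∑ χ ∈ posSet F, u χ with hA
  set B := ∑ χ ∈ negSet F, u χ with hB
  set U := u (F.θ 1) with hU
  set O := ∑ χ ∈ outSet D, (fx D χ : ℤ) * u χ with hO
  set f := (charDegree (F.θ 1 : G → ℂ) : ℤ) with hfdef
  have hf : f = (r : ℤ) * p - e := by
    have := hS.deg_theta 1
    rw [hε] at this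
    linarith
  have hsum := card_sets hM h hS.one_mem
  have hcount := hS.count
  have hrt' : (n : ℤ) + 1 = (r : ℤ) * t := by exact_mod_cast hrt
  have het' : (e : ℤ) * t = (p : ℤ) - 1 := by
    have e' : ((e * t : ℕ) : ℤ) = ((p - 1 : ℕ) : ℤ) := by rw [het]
    rw [Nat.cast_mul, Nat.cast_sub (by omega), Nat.cast_one] at e'
    exact e'
  have hUq : ∀ q, u (F.θ q) = U := fun q => by
    apply Int.cast_injective (α := ℂ)
    rw [← hu, hU, ← hu]
    exact D.theta_regular F q hzreg
  have hone' : charDegree ((oneChar : IrrCharacter G) : G → ℂ) = 1 := by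
    have h1 := apply_one (isCharacter_of_irr (oneChar : IrrCharacter G).2)
    rw [oneChar_apply] at h1
    exact_mod_cast h1.symm
  have huone : u oneChar = 1 := by
    have h1 := hu (oneChar : IrrCharacter G)
    rw [oneChar_apply] at h1
    exact_mod_cast h1.symm
  have hrel : B = 1 + A + U := by
    have h1 := relation hM hS.one_mem (g := z) hzreg
    simp only [hu, hε] at h1
    apply Int.cast_injective (α := ℂ)
    rw [hA, hB, hU]
    push_cast at h1 ⊢
    linear_combination h1
  have hdeg : 1 + ((n : ℤ) * p + 1) * A + ((p : ℤ) - 1) * B + (t : ℤ) * f * U + (p : ℤ) * O = 0 := by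
    have h1 := sum_mul_degree (G := G) hz1
    have h1' : (∑ χ : IrrCharacter G, (charDegree (χ : G → ℂ) : ℤ) * u χ) = 0 := by
      apply Int.cast_injective (α := ℂ)
      push_cast
      simpa only [hu] using h1
    rw [split_sum hM hS.one_mem, hone', huone,
      Finset.sum_congr rfl (s₁ := posSet F) (g := fun χ => ((n : ℤ) * p + 1) * u χ) (fun χ hχ => by
        rw [(pos_data h hχ).1]; push_cast; rfl),
      Finset.sum_congr rfl (s₁ := negSet F) (g := fun χ => ((p : ℤ) - 1) * u χ) (fun χ hχ => by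
        rw [(neg_data h hχ).1]),
      Finset.sum_congr rfl (s₁ := (Finset.univ : Finset (D.Idx D.one))) (g := fun _ => f * U) (fun q _ => by
        rw [theta_deg_eq, hUq, hfdef]),
      Finset.sum_congr rfl (s₁ := outSet D) (g := fun χ => (p : ℤ) * ((fx D χ : ℤ) * u χ)) (fun χ hχ => by
        rw [(out_data h hχ).1]; ring),
      Finset.sum_const, Finset.card_univ, D.card_Idx, ← htdef, ← Finset.mul_sum, ← Finset.mul_sum, ← Finset.mul_sum,
      ← hA, ← hB, ← hO, nsmul_eq_mul] at h1'
    push_cast at h1'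
    linear_combination h1'
  -- the sums over the complement
  set C : ℕ := ∑ g : D.H, (if IsConj (g : G) z then Nat.card (Subgroup.centralizer ({(g : G)} : Set G)) else 0) with hC
  have hcol : (e : ℤ) + (n : ℤ) * ((p : ℤ) - 1) * A + ((p : ℤ) - 1) * B + (t : ℤ) * (f - r) * U +
      ((p : ℤ) - 1 + e) * O = C := by
    have h1 : ∑ χ : IrrCharacter G, (u χ : ℂ) * ∑ g : D.H, (χ : G → ℂ) (g : G) = (C : ℂ) := by
      rw [hC, Nat.cast_sum]
      simp only [Finset.mul_sum]
      rw [Finset.sum_comm]
      refine Finset.sum_congr rfl fun g _ => ?_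
      rw [Nat.cast_ite, Nat.cast_zero, ← sum_col (g : G) z]
      refine Finset.sum_congr rfl fun χ _ => ?_
      rw [hu χ, map_intCast, mul_comm]
    have h2 : ∀ χ : IrrCharacter G, (u χ : ℂ) * ∑ g : D.H, (χ : G → ℂ) (g : G) =
        ((u χ * ((charDegree (χ : G → ℂ) : ℤ) - fx D χ + e * mu D χ) : ℤ) : ℂ) := fun χ => by
      rw [sum_apply_H D h.cardV]; push_cast; rfl
    rw [Finset.sum_congr rfl fun χ _ => h2 χ, ← Int.cast_sum] at h1
    have h3 : (∑ χ : IrrCharacter G, u χ * ((charDegree (χ : G → ℂ) : ℤ) - fx D χ + e * mu D χ)) = (C : ℤ) := by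
      exact_mod_cast h1
    have hK1 : (charDegree ((oneChar : IrrCharacter G) : G → ℂ) : ℤ) - fx D oneChar + e * mu D oneChar = e := by
      apply Int.cast_injective (α := ℂ)
      push_cast
      rw [← sum_apply_H D h.cardV]
      simp [oneChar_apply, hedef]
    rw [split_sum hM hS.one_mem, huone, hK1,
      Finset.sum_congr rfl (s₁ := posSet F) (g := fun χ => ((n : ℤ) * ((p : ℤ) - 1)) * u χ) (fun χ hχ => by
        rw [(pos_data h hχ).1, (pos_data h hχ).2, hS.mu_pos χ hχ]; push_cast; ring),
      Finset.sum_congr rfl (s₁ := negSet F) (g := fun χ => ((p : ℤ) - 1) * u χ) (fun χ hχ => by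
        have h4 := mu_le D χ
        rw [(neg_data h hχ).2, Nat.le_zero] at h4
        rw [(neg_data h hχ).1, (neg_data h hχ).2, h4]; push_cast; ring),
      Finset.sum_congr rfl (s₁ := (Finset.univ : Finset (D.Idx D.one))) (g := fun _ => (f - r) * U) (fun q _ => by
        rw [theta_deg_eq, hUq, hS.fx_theta, hS.mu_theta, hfdef]; push_cast; ring),
      Finset.sum_congr rfl (s₁ := outSet D) (g := fun χ => ((p : ℤ) - 1 + e) * ((fx D χ : ℤ) * u χ)) (fun χ hχ => by
        rw [(out_data h hχ).1, hS.mu_out χ hχ]; ring),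
      Finset.sum_const, Finset.card_univ, D.card_Idx, ← htdef, ← Finset.mul_sum, ← Finset.mul_sum, ← Finset.mul_sum,
      ← hA, ← hB, ← hO, nsmul_eq_mul] at h3
    linear_combination h3
  have hO' : O = -1 - ((n : ℤ) + 1) * (A + U) := by
    refine mul_left_cancel₀ (show (p : ℤ) ≠ 0 by exact_mod_cast D.hp.ne_zero) ?_
    linear_combination hdeg - ((p : ℤ) - 1) * hrel - (t : ℤ) * U * hf + (p : ℤ) * U * hrt' + U * het'
  have hCS : (C : ℤ) = -((e : ℤ) * ((n : ℤ) + 1) * (A + U)) := by
    linear_combination -hcol + ((p : ℤ) - 1) * hrel + (t : ℤ) * U * hf - ((p : ℤ) - 1) * U * hrt' - U * het' +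
      ((p : ℤ) - 1 + e) * hO'
  by_cases he : 2 ∣ e
  · -- an involution of the complement
    obtain ⟨z', hz'⟩ : ∃ z' : D.H, (z' : G) = z := ⟨⟨z, hzH he⟩, rfl⟩
    have hz'1 : z' ≠ 1 := fun e' => hz1 (by rw [← hz', e', OneMemClass.coe_one])
    have hle : ∀ χ, (u χ) ^ 2 ≤ (fx D χ : ℤ) ^ 2 := fun χ => by
      have h1 := norm_apply_le_fx D h.cardV χ hz'1
      rw [hz', hu, Complex.norm_intCast] at h1
      have h2 : |u χ| ≤ (fx D χ : ℤ) := by exact_mod_cast h1
      rw [← sq_abs (u χ)]
      exact pow_le_pow_left₀ (abs_nonneg _) h2 2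
    have hB0 : B = 0 := Finset.sum_eq_zero fun χ hχ => by
      have := hle χ
      rw [(neg_data h hχ).2, Nat.cast_zero, zero_pow two_ne_zero] at this
      exact pow_eq_zero_iff two_ne_zero |>.1 (le_antisymm this (sq_nonneg _))
    have hC' : C = Nat.card (Subgroup.centralizer ({z} : Set G)) := by
      rw [hC, Finset.sum_eq_single z' (fun g _ hg => if_neg fun hc => hg ?_)
        (fun h' => absurd (Finset.mem_univ _) h'), hz', if_pos (IsConj.refl z)]
      refine eq_of_order_two h.cardV (by rw [← Subgroup.orderOf_coe, hz', hz]) ?_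
      obtain ⟨c, hc⟩ := isConj_iff.1 hc
      rw [← Subgroup.orderOf_coe, ← hz, ← hc, ← MulAut.conj_apply, MulEquiv.orderOf_eq]
    have hzz : ∑ χ : IrrCharacter G, u χ ^ 2 = (C : ℤ) := by
      apply Int.cast_injective (α := ℂ)
      push_cast
      have h1 := sum_col z z
      rw [if_pos (IsConj.refl z), ← hC'] at h1
      rw [← h1]
      exact Finset.sum_congr rfl fun χ _ => by rw [hu, map_intCast, sq]
    have hS1 : A + U = -1 := by linarith
    rw [split_sum hM hS.one_mem, huone, Finset.sum_eq_zero (s := negSet F) (fun χ hχ => by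
        have := hle χ
        rw [(neg_data h hχ).2, Nat.cast_zero, zero_pow two_ne_zero] at this
        exact le_antisymm this (sq_nonneg _)),
      Finset.sum_congr rfl (s₁ := (Finset.univ : Finset (D.Idx D.one))) (g := fun _ => U ^ 2)
        (fun q _ => by rw [hUq]),
      Finset.sum_const, Finset.card_univ, D.card_Idx, ← htdef, nsmul_eq_mul] at hzz
    have hP : ∀ χ ∈ posSet F, 0 ≤ ((n : ℤ) + 1) ^ 2 - u χ ^ 2 := fun χ hχ => by
      have := hle χ
      rw [(pos_data h hχ).2] at this
      push_cast at this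
      linarith
    have hT : 0 ≤ (r : ℤ) ^ 2 - U ^ 2 := by
      have := hle (F.θ 1)
      rw [hS.fx_theta] at this
      linarith
    have hOb : 0 ≤ (n : ℤ) - ∑ χ ∈ outSet D, u χ ^ 2 := by
      have h1 : ((∑ χ ∈ outSet D, fx D χ ^ 2 : ℕ) : ℤ) = n := by rw [hS.sum_out]
      push_cast at h1
      rw [← h1, ← Finset.sum_sub_distrib]
      exact Finset.sum_nonneg fun χ _ => sub_nonneg.2 (hle χ)
    have htot : ∑ χ ∈ posSet F, (((n : ℤ) + 1) ^ 2 - u χ ^ 2) + (t : ℤ) * ((r : ℤ) ^ 2 - U ^ 2) +
        ((n : ℤ) - ∑ χ ∈ outSet D, u χ ^ 2) = 0 := by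
      have hsum' : 1 + ((posSet F).card : ℤ) + (negSet F).card = e := by exact_mod_cast hsum
      rw [Finset.sum_sub_distrib, Finset.sum_const, nsmul_eq_mul]
      linear_combination -hzz - hCS + (e : ℤ) * ((n : ℤ) + 1) * hS1 + ((n : ℤ) + 1) * hsum' +
        ((n : ℤ) + 1) * hcount - (r : ℤ) * hrt'
    have hPn := Finset.sum_nonneg hP
    have hTn : 0 ≤ (t : ℤ) * ((r : ℤ) ^ 2 - U ^ 2) := mul_nonneg (Int.natCast_nonneg _) hT
    have hU0 : (r : ℤ) ^ 2 - U ^ 2 = 0 := by
      have : (t : ℤ) * ((r : ℤ) ^ 2 - U ^ 2) = 0 := by linarith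
      refine (mul_eq_zero.1 this).resolve_left ?_
      exact_mod_cast (Subgroup.index_ne_zero_of_finite : (D.U D.one).index ≠ 0)
    have hP0 := (Finset.sum_eq_zero_iff_of_nonneg hP).1 (by linarith)
    have hdU : (r : ℤ) ∣ U := (Int.pow_dvd_pow_iff two_ne_zero).1 ⟨1, by linarith⟩
    have hdA : (r : ℤ) ∣ A := Finset.dvd_sum fun χ hχ => by
      have h1 : ((n : ℤ) + 1) ∣ u χ := (Int.pow_dvd_pow_iff two_ne_zero).1 ⟨1, by linarith [hP0 χ hχ]⟩
      exact dvd_trans ⟨t, hrt'⟩ h1
    have := dvd_add hdA hdU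
    rw [hS1] at this
    have := Int.le_of_dvd one_pos (dvd_neg.1 this)
    omega
  · -- no involution in the complement
    have hC0 : C = 0 := Finset.sum_eq_zero fun g _ => if_neg fun hc => he (by
      obtain ⟨c, hc⟩ := isConj_iff.1 hc
      rw [← hz, ← hc, ← MulAut.conj_apply, MulEquiv.orderOf_eq, Subgroup.orderOf_coe]
      exact orderOf_dvd_natCard g)
    rw [hC0, Nat.cast_zero, eq_comm, neg_eq_zero] at hCS
    have hS0 : A + U = 0 := (mul_eq_zero.1 hCS).resolve_left (by
      refine mul_ne_zero ?_ (by omega)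
      exact_mod_cast (Nat.card_pos : 0 < Nat.card D.H).ne')
    have hB2 : 2 ∣ B := Finset.dvd_sum fun χ hχ => by
      have h1 := hpar χ
      rw [(neg_data h hχ).1] at h1
      omega
    omega

set_option maxHeartbeats 1600000 in
theorem no_pos {M : Ideal AlgInt} (hM : IsPModular p M) (h : Few D n) (hS : Shape D n F r) (hε : F.ε = 1)
    (hr : r = 0) (ht : 2 ≤ (D.U D.one).index) : False := by
  classical
  haveI : Fintype (IrrCharacter G) := Fintype.ofFinite _
  haveI := isMulCommutative_H D h.cardV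
  have hp3 := h.three_le
  set e := Nat.card D.H with hedef
  set t := (D.U D.one).index with htdef
  set a := (posSet F).card with hadef
  have hsum := card_sets hM h hS.one_mem
  have hcount := hS.count
  have hb : (negSet F).card = a * n := by
    rw [hr, Nat.cast_zero, add_zero] at hcount
    exact_mod_cast hcount.symm
  have hf : charDegree (F.θ 1 : G → ℂ) = e := by
    have h1 := hS.deg_theta 1
    rw [hε, hr] at h1
    push_cast at h1
    have : (charDegree (F.θ 1 : G → ℂ) : ℤ) = e := by linarith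
    exact_mod_cast this
  set ψ : G → ℂ := fun g => (F.θ 1 : G → ℂ) g * conj ((F.θ 1 : G → ℂ) g) with hψdef
  have hθc := isCharacter_of_irr (F.θ 1).2
  have hψ : IsCharacter G ψ := isCharacter_mul hθc (isCharacter_star hθc)
  choose α hα using fun χ : IrrCharacter G => classInner_character_nat hψ χ
  have hexp : ψ = ∑ χ : IrrCharacter G, (α χ : ℂ) • (χ : G → ℂ) := by
    conv_lhs => rw [classFun_expand (isClassFunction hψ)]
    exact Finset.sum_congr rfl fun χ _ => by rw [hα]
  have hα1 : α oneChar = 1 := by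
    have h1 := hα oneChar
    have h2 : classInner ψ (fun _ : G => (1 : ℂ)) = 1 := by
      rw [classInner_one]
      have := classInner_self (F.θ 1).2
      rw [classInner_eq] at this
      exact this
    exact_mod_cast h1.symm.trans h2
  have hphi : ∀ g : D.H, phi D ψ g = ∑ χ : IrrCharacter G, (α χ : ℂ) * phi D (χ : G → ℂ) g := by
    intro g
    conv_lhs => rw [hexp]
    simp only [phi, Finset.sum_apply, Pi.smul_apply, smul_eq_mul, Finset.mul_sum]
    rw [Finset.sum_comm]
    exact Finset.sum_congr rfl fun χ _ => Finset.sum_congr rfl fun i _ => by ring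
  have hzero : ∀ g : D.H, g ≠ 1 → ∀ χ : IrrCharacter G, fx D χ = 0 → (χ : G → ℂ) (g : G) = 0 := by
    intro g hg χ hχ
    have h1 := norm_apply_le_fx D h.cardV χ hg
    rw [hχ, Nat.cast_zero] at h1
    exact norm_le_zero_iff.1 h1
  have hψH : ∀ g : D.H, phi D ψ g = if g = 1 then (e : ℂ) else 0 := by
    intro g
    split_ifs with hg
    · subst hg
      set T : Finset (ZMod p)ˣ := Finset.univ.filter fun a => (1 : D.Idx D.one) = D.cls D.one a with hT
      have hTc : T.card = e := by
        rw [hedef, ← h.index_eq, ← D.card_U_one, Nat.card_eq_fintype_card, Fintype.card_subtype]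
        congr 1
        ext a
        simp only [hT, Finset.mem_filter, Finset.mem_univ, true_and]
        exact eq_comm.trans (QuotientGroup.eq_one_iff a)
      have hval : ∀ i : ZMod p, (F.θ 1 : G → ℂ) (D.x ^ i.val) = ∑ a ∈ T, Data.ee (i * (a : ZMod p)) := by
        intro i
        by_cases hi : i = 0
        · subst hi
          simp only [ZMod.val_zero, pow_zero, zero_mul, Data.ee_zero, Finset.sum_const, hTc, nsmul_eq_mul, mul_one]
          rw [apply_one hθc, hf]
        · have h1 := WielandtTwoP.theta_pt D (by rw [h.cardV]; exact one_dvd 2) F hε 1 hi 1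
          rw [D.one_apply, mul_one, ← Finset.sum_filter] at h1
          rw [← h1]
          simp [Data.pt]
      have hsq : ∑ i : ZMod p, ψ (D.x ^ i.val) = (p : ℂ) * e := by
        simp only [hψdef, hval, map_sum, Data.conj_ee, Finset.sum_mul_sum, ← Data.ee_add]
        rw [Finset.sum_comm, Finset.sum_congr rfl (g := fun _ => (p : ℂ)) fun a ha => ?_, Finset.sum_const, hTc,
          nsmul_eq_mul, mul_comm]
        rw [Finset.sum_comm, Finset.sum_eq_single_of_mem a ha (fun b _ hb => ?_)]
        · simp [Data.ee_zero]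
        · rw [Finset.sum_congr rfl fun i _ => congrArg Data.ee
            (show i * (a : ZMod p) + -(i * (b : ZMod p)) = i * ((a : ZMod p) - b) by ring), Data.sum_ee_mul,
            if_neg (sub_ne_zero.2 fun e' => hb (Units.ext e'.symm))]
      simp only [phi, OneMemClass.coe_one, mul_one]
      rw [hsq, inv_mul_cancel_left₀ (Nat.cast_ne_zero.2 D.hp.ne_zero)]
    · rw [phi_apply D h.cardV (isClassFunction hψ) hg]
      simp only [hψdef, hzero g hg (F.θ 1) (by rw [hS.fx_theta, hr]), zero_mul]
  have hphi0 : ∀ χ : IrrCharacter G, fx D χ = 0 → ∀ g, phi D (χ : G → ℂ) g = 0 := fun χ hχ g => by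
    have hm := mu_le D χ
    rw [phi_eq_const D (by omega) g, hχ, Nat.cast_zero]
  have hphione : ∀ g, phi D ((oneChar : IrrCharacter G) : G → ℂ) g = 1 := fun g => by
    simp only [phi, oneChar_apply, Finset.sum_const, Finset.card_univ, ZMod.card, nsmul_eq_mul, mul_one]
    exact inv_mul_cancel₀ (Nat.cast_ne_zero.2 D.hp.ne_zero)
  have hrelH : ∀ g : D.H, (if g = 1 then (e : ℂ) else 0) = 1 + ∑ χ ∈ posSet F, phi D (χ : G → ℂ) g := by
    intro g
    split_ifs with hg
    · subst hg
      rw [Finset.sum_congr rfl fun χ hχ => by rw [phi_one, (pos_data h hχ).2], Finset.sum_const, nsmul_eq_mul,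
        ← hadef, hedef, ← hsum, hb]
      push_cast
      ring
    · have h1 := relation hM hS.one_mem (g := (g : G)) (regular_H g)
      rw [hzero g hg (F.θ 1) (by rw [hS.fx_theta, hr]), mul_zero,
        Finset.sum_eq_zero (s := negSet F) (fun χ hχ => hzero g hg χ (neg_data h hχ).2), sub_zero] at h1
      rw [h1]
      exact congrArg _ (Finset.sum_congr rfl fun χ _ =>
        (phi_apply D h.cardV (isClassFunction (isCharacter_of_irr χ.2)) hg).symm)
  have hα2 : ∀ χ₀ ∈ posSet F, α χ₀ = 1 := by
    intro χ₀ hχ₀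
    set Φ := phi D (χ₀ : G → ℂ) with hΦ
    have hΦc : IsCharacter D.H Φ := isCharacter_phi D (isCharacter_of_irr χ₀.2)
    have hd : ((n : ℂ) + 1) = classInner (fun g : D.H => if g = 1 then (e : ℂ) else 0) Φ := by
      rw [classInner_eq, Finset.sum_eq_single (1 : D.H) (fun g _ hg => by rw [if_neg hg, zero_mul])
        (fun h' => absurd (Finset.mem_univ _) h'), if_pos rfl, hΦ, phi_one, (pos_data h hχ₀).2, map_natCast,
        ← hedef, inv_mul_cancel_left₀ (Nat.cast_ne_zero.2 Nat.card_pos.ne')]
      push_cast; rfl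
    have hconst : ∀ c : ℂ, classInner (fun _ : D.H => c) Φ = 0 := by
      intro c
      rw [classInner_eq, ← Finset.mul_sum, ← map_sum, hΦ, mu_spec, hS.mu_pos χ₀ hχ₀, Nat.cast_zero, mul_zero,
        map_zero, mul_zero, mul_zero]
    choose m hm using fun χ : IrrCharacter G =>
      classInner_characters_nat (isCharacter_phi D (isCharacter_of_irr χ.2)) hΦc
    have h1 : n + 1 = ∑ χ ∈ posSet F, m χ := by
      have e1 : (fun g : D.H => if g = 1 then (e : ℂ) else 0) =
          (fun _ : D.H => (1 : ℂ)) + ∑ χ ∈ posSet F, phi D (χ : G → ℂ) := funext fun g => by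
        rw [hrelH, Pi.add_apply, Finset.sum_apply]
      rw [e1, classInner_add_left, hconst, zero_add, classInner_sum_left,
        Finset.sum_congr rfl (fun χ _ => hm χ), ← Nat.cast_sum] at hd
      exact_mod_cast hd
    have h2 : n + 1 ≤ m χ₀ := by
      have h3 := degree_le_norm hΦc (hm χ₀)
      rw [show charDegree Φ = fx D χ₀ from rfl, (pos_data h hχ₀).2] at h3
      exact h3
    rw [← Finset.sum_erase_add _ _ hχ₀] at h1
    have h4 : ∀ χ ∈ (posSet F).erase χ₀, m χ = 0 := fun χ hχ => by
      have h5 : m χ ≤ ∑ ξ ∈ (posSet F).erase χ₀, m ξ :=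
        Finset.single_le_sum (fun _ _ => Nat.zero_le _) hχ
      omega
    have h6 : m χ₀ = n + 1 := by rw [Finset.sum_eq_zero h4] at h1; omega
    have h7 : n + 1 = α χ₀ * m χ₀ := by
      have e1 : (fun g : D.H => if g = 1 then (e : ℂ) else 0) =
          ∑ χ : IrrCharacter G, (α χ : ℂ) • phi D (χ : G → ℂ) := funext fun g => by
        rw [← hψH, hphi, Finset.sum_apply]
        rfl
      rw [e1, classInner_sum_left] at hd
      simp only [classInner_smul_left] at hd
      rw [Finset.sum_congr rfl (g := fun χ => ((α χ : ℂ) * (m χ : ℂ))) (fun χ _ => by rw [hm χ]),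
        split_sum hM hS.one_mem] at hd
      have hz : ∀ χ : IrrCharacter G, (∃ c : ℂ, ∀ g, phi D (χ : G → ℂ) g = c) → m χ = 0 := fun χ ⟨c, hc⟩ => by
        have := hm χ
        rw [show phi D (χ : G → ℂ) = fun _ => c from funext hc, hconst] at this
        exact_mod_cast this.symm
      rw [hz oneChar ⟨1, hphione⟩, Finset.sum_eq_single_of_mem χ₀ hχ₀ (fun χ hχ hne => by
          rw [h4 χ (Finset.mem_erase.2 ⟨hne, hχ⟩), Nat.cast_zero, mul_zero]),
        Finset.sum_eq_zero (s := negSet F) (fun χ hχ => by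
          rw [hz χ ⟨0, hphi0 χ (neg_data h hχ).2⟩, Nat.cast_zero, mul_zero]),
        Finset.sum_eq_zero (s := (Finset.univ : Finset (D.Idx D.one))) (fun q _ => by
          rw [hz _ ⟨0, hphi0 _ (by rw [hS.fx_theta, hr])⟩, Nat.cast_zero, mul_zero]),
        Finset.sum_eq_zero (s := outSet D) (fun χ hχ => by
          rw [hz χ ⟨_, phi_eq_const D (hS.mu_out χ hχ)⟩, Nat.cast_zero, mul_zero])] at hd
      push_cast at hd
      simp only [mul_zero, zero_add, add_zero] at hd
      exact_mod_cast hd
    rw [h6] at h7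
    exact (Nat.eq_of_mul_eq_mul_right (Nat.succ_pos n) (by rw [one_mul]; exact h7.symm)).trans rfl
  have hdeg : e * e = ∑ χ : IrrCharacter G, α χ * charDegree (χ : G → ℂ) := by
    have h1 := congrFun hexp 1
    simp only [hψdef, Finset.sum_apply, Pi.smul_apply, smul_eq_mul, apply_one (isCharacter_of_irr (Subtype.property _)),
      hf, Complex.conj_natCast] at h1
    exact_mod_cast h1
  rw [split_sum hM hS.one_mem, hα1,
    Finset.sum_congr rfl (s₁ := posSet F) (g := fun _ => n * p + 1) (fun χ hχ => by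
      rw [hα2 χ hχ, one_mul, (pos_data h hχ).1]),
    Finset.sum_const, smul_eq_mul, ← hadef] at hdeg
  have hone' : charDegree ((oneChar : IrrCharacter G) : G → ℂ) = 1 := by
    have h1 := apply_one (isCharacter_of_irr (oneChar : IrrCharacter G).2)
    rw [oneChar_apply] at h1
    exact_mod_cast h1.symm
  rw [hone'] at hdeg
  have het : e * t + 1 = p := by
    have := h.card_mul_index
    rw [← hedef, ← htdef] at this
    omega
  rw [hb, ← hadef, ← hedef] at hsum
  have he2 : 2 ≤ e := h.two_le_e
  have ha1 : 1 ≤ a := by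
    by_contra h0
    rw [show a = 0 by omega] at hsum
    omega
  have hn := h.two_le
  have h8 : e - 1 < a * n * t := by
    have h9 : a * n * 2 ≤ a * n * t := Nat.mul_le_mul_left _ ht
    have h10 : a * 2 ≤ a * n := Nat.mul_le_mul_left _ hn
    omega
  have h11 : a * (n * p + 1) = e * (a * n * t) + (e - 1) := by
    rw [← het]
    have : e - 1 = a + a * n := by omega
    rw [this]; ring
  have h12 : e * e ≤ e * (a * n * t) := Nat.mul_le_mul_left e (by omega)
  omega

end CfsgLib.BrauerFew
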