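import Mathlib
import Cfsg.Agent.BrauerFew.Contra
import Cfsg.Agent.BrauerReynolds.Main

/-!
A perfect group with a self centralising subgroup of prime order `p` has order less than `p ^ 3` unless the number
`n p + 1` of its conjugates has `n = (h u p + u ^ 2 + u + h) / (u + 1)`; in particular if `2 n ≤ p + 1`.
-/

set_option autoImplicit false
set_option linter.style.haveILetI false

namespace CfsgLib.BrauerFew

open Cfsg CfsgLib.DefectOne

universe u

theorem Few.small {G : Type u} [Group G] [Fintype G] {p : ℕ} [Fact p.Prime] {D : Data G p} {n : ℕ}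
    (h : Few D n) : Nat.card D.H * n < p := by
  obtain ⟨M, hM⟩ := CfsgLib.Blocks.exists_modular D.hp
  obtain ⟨F, r, hS⟩ := h.shape hM
  rcases hS.cases with ⟨hε, hr, ht⟩ | ⟨hε, hr, hrt⟩
  · exact (no_pos hM h hS hε hr ht).elim
  · by_cases h2 : 2 ≤ r
    · exact (no_neg hM h hS hε h2 hrt).elim
    · have h1 : n ≤ (D.U D.one).index := by
        rw [show r = 1 by omega, one_mul] at hrt
        omega
      have h3 := Nat.mul_le_mul_left (Nat.card D.H) h1
      rw [h.card_mul_index] at h3
      have := D.hp.two_le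
      omega

theorem card_lt_cube' {G : Type u} [Group G] [Finite G] (hperf : commutator G = ⊤) (p : ℕ) [Fact p.Prime] (z : G)
    (hz : orderOf z = p) (hC : Subgroup.centralizer ({z} : Set G) = Subgroup.zpowers z)
    (hF : ∀ n : ℕ, Nat.card (Sylow p G) = n * p + 1 → NoForm p n) :
    p ∣ Nat.card G ∧ Nat.card G < p ^ 3 ∧ (∀ P : Sylow p G, ¬ (P : Subgroup G).Normal) ∧
      ∀ N : Subgroup G, N.Normal → Nat.card N ≠ 2 := by
  classical
  haveI : Fintype G := Fintype.ofFinite G
  have hp : p.Prime := Fact.out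
  obtain ⟨P, hzP⟩ := (IsPGroup.of_card (G := Subgroup.zpowers z) (n := 1)
    (by rw [Nat.card_zpowers, hz, pow_one])).exists_le_sylow
  -- the Sylow subgroup is generated by `z`
  haveI : Nontrivial (P : Subgroup G) :=
    ⟨⟨⟨z, hzP (Subgroup.mem_zpowers z)⟩, 1, fun e => hp.ne_one (by
      rw [← hz, show z = 1 from congrArg Subtype.val e, orderOf_one])⟩⟩
  have hPz : (P : Subgroup G) = Subgroup.zpowers z := by
    haveI := P.isPGroup'.center_nontrivial
    obtain ⟨c, hc1⟩ := exists_ne (1 : Subgroup.center (P : Subgroup G))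
    set zz : (P : Subgroup G) := ⟨z, hzP (Subgroup.mem_zpowers z)⟩
    have hcz : (((c : (P : Subgroup G)) : G)) ∈ Subgroup.zpowers z := by
      rw [← hC, Subgroup.mem_centralizer_singleton_iff]
      exact congrArg Subtype.val (Subgroup.mem_center_iff.1 c.2 zz).symm
    have hgen : Subgroup.zpowers ((c : (P : Subgroup G)) : G) = Subgroup.zpowers z := by
      refine Subgroup.eq_of_le_of_card_ge (Subgroup.zpowers_le.2 hcz) ?_
      have hdv := Subgroup.card_dvd_of_le (Subgroup.zpowers_le.2 hcz)
      rw [Nat.card_zpowers, Nat.card_zpowers, hz] at hdv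
      rw [Nat.card_zpowers, Nat.card_zpowers, hz]
      rcases hp.eq_one_or_self_of_dvd _ hdv with h1 | h1
      · exact absurd (Subtype.ext (Subtype.ext (orderOf_eq_one_iff.1 h1))) hc1
      · rw [h1]
    refine le_antisymm (fun g hg => ?_) hzP
    rw [← hC, Subgroup.mem_centralizer_singleton_iff]
    have hzc : z ∈ Subgroup.zpowers ((c : (P : Subgroup G)) : G) := hgen ▸ Subgroup.mem_zpowers z
    obtain ⟨k, hk⟩ := Subgroup.mem_zpowers_iff.1 hzc
    rw [← hk]
    have hcomm : Commute g ((c : (P : Subgroup G)) : G) :=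
      congrArg Subtype.val (Subgroup.mem_center_iff.1 c.2 (⟨g, hg⟩ : (P : Subgroup G)))
    exact (hcomm.zpow_right k).eq
  have hPcard : Nat.card P = p := by
    rw [show Nat.card P = Nat.card (P : Subgroup G) from rfl, hPz, Nat.card_zpowers, hz]
  have hdvd : p ∣ Nat.card G := hPcard ▸ Subgroup.card_subgroup_dvd_card _
  have hnotn : ∀ Q : Sylow p G, ¬ (Q : Subgroup G).Normal := by
    intro Q hQ
    haveI : Subsingleton (Sylow p G) := (Sylow.unique_of_normal Q hQ).instSubsingleton
    have hPn : (P : Subgroup G).Normal := by rwa [Subsingleton.elim P Q]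
    rw [hPz] at hPn
    haveI := hPn
    haveI hcy : IsCyclic (Subgroup.zpowers z) := inferInstance
    let A := MulAut (Subgroup.zpowers z)
    letI : CommGroup A :=
      { (inferInstance : Group A) with
        mul_comm := fun a b => by
          obtain ⟨m, hm⟩ := MonoidHom.map_cyclic a.toMonoidHom
          obtain ⟨l, hl⟩ := MonoidHom.map_cyclic b.toMonoidHom
          refine MulEquiv.ext fun x => ?_
          have hm' : ∀ y, a y = y ^ m := hm
          have hl' : ∀ y, b y = y ^ l := hl
          show a (b x) = b (a x)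
          rw [hm', hl', hl', hm', ← zpow_mul, ← zpow_mul, mul_comm] }
    have hall : ∀ g : G, g ∈ Subgroup.zpowers z := fun g => by
      rw [← hC, Subgroup.mem_centralizer_singleton_iff]
      have h1 := BrauerReynolds.eq_one_of_perfect (A := A) hperf (MulAut.conjNormal (H := Subgroup.zpowers z)) g
      have h3 := MulAut.conjNormal_apply g (⟨z, Subgroup.mem_zpowers z⟩ : Subgroup.zpowers z)
      rw [h1] at h3
      exact mul_inv_eq_iff_eq_mul.1 (h3.symm : g * z * g⁻¹ = z)
    have hc : ∀ a b : G, a * b = b * a := fun a b => by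
      obtain ⟨i, rfl⟩ := Subgroup.mem_zpowers_iff.1 (hall a)
      obtain ⟨j, rfl⟩ := Subgroup.mem_zpowers_iff.1 (hall b)
      rw [← zpow_add, ← zpow_add, add_comm]
    have hbot : commutator G = ⊥ := by
      rw [commutator_def, Subgroup.commutator_eq_bot_iff_le_centralizer]
      exact fun a _ => Subgroup.mem_centralizer_iff.2 fun b _ => hc b a
    rw [hperf] at hbot
    have : z ∈ (⊥ : Subgroup G) := hbot ▸ Subgroup.mem_top z
    rw [Subgroup.mem_bot] at this
    rw [this, orderOf_one] at hz
    exact hp.ne_one hz.symm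
  obtain ⟨D, hD⟩ := exists_data P hPcard
  have hV : Nat.card D.V = 1 := by
    have h1 := D.card_centralizer
    have h2 : Subgroup.centralizer (Subgroup.zpowers D.x : Set G) = Subgroup.zpowers z := by
      rw [hD, hPz, Subgroup.zpowers_eq_closure, Subgroup.centralizer_closure, hC, Subgroup.zpowers_eq_closure]
    rw [h2, Nat.card_zpowers, hz] at h1
    exact (Nat.eq_of_mul_eq_mul_left hp.pos (by rw [mul_one]; exact h1.symm))
  obtain ⟨n, hN⟩ : ∃ n, Nat.card (Sylow p G) = n * p + 1 := by
    refine ⟨Nat.card (Sylow p G) / p, ?_⟩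
    have hmod : Nat.card (Sylow p G) ≡ 1 [MOD p] := card_sylow_modEq_one p G
    have h1 : Nat.card (Sylow p G) % p = 1 := by rw [Nat.ModEq, Nat.one_mod_eq_one.2 hp.ne_one] at hmod; exact hmod
    have := Nat.div_add_mod (Nat.card (Sylow p G)) p
    rw [mul_comm]; omega
  have hcard : Nat.card G = p * (Nat.card D.H * (n * p + 1)) := by
    rw [← hN, ← mul_assoc, ← D.card_normalizer, hD, P.card_eq_index_normalizer]
    exact (Subgroup.card_mul_index (Subgroup.normalizer ((P : Subgroup G) : Set G))).symm
  have hn1 : 1 ≤ n := by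
    by_contra h0
    rw [show n = 0 by omega, zero_mul, zero_add, P.card_eq_index_normalizer] at hN
    exact hnotn P (Subgroup.normalizer_eq_top_iff.1 (Subgroup.index_eq_one.1 hN))
  have hH : D.V.index = Nat.card D.H := by rw [← Subgroup.index_mul_card D.V, hV, mul_one]
  have het : Nat.card D.H * (D.U D.one).index = p - 1 := by
    rw [← hH, ← D.card_U_one]; exact D.card_U_mul_index D.one
  have hp2 : p ≠ 2 := by
    intro e
    have h1 : Nat.card D.H = 1 := by
      have h2 : Nat.card D.H * (D.U D.one).index = 1 := by omega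
      exact Nat.eq_one_of_mul_eq_one_right h2
    refine BrauerReynolds.not_normalizer_le_centralizer hperf P hdvd ?_
    rw [← hD]
    exact Subgroup.relIndex_eq_one.1 (D.relIndex_eq.trans (hH.trans h1))
  have h2N : ∀ N : Subgroup G, N.Normal → Nat.card N ≠ 2 := by
    intro N hN2 hc
    haveI := hN2
    obtain ⟨t, ht⟩ : ∃ t : N, t ≠ 1 := by
      haveI : Nontrivial N := Finite.one_lt_card_iff_nontrivial.1 (by rw [hc]; norm_num)
      exact exists_ne 1
    have hcen : ∀ g : G, g * (t : G) = (t : G) * g := by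
      intro g
      obtain ⟨y, -, huniq⟩ := (Nat.card_eq_two_iff' (1 : N)).1 hc
      have hw : (⟨g * (t : G) * g⁻¹, hN2.conj_mem _ t.2 g⟩ : N) ≠ 1 := fun e => ht (Subtype.ext (by
        simpa [conj_eq_one_iff] using congrArg Subtype.val e))
      have : (⟨g * (t : G) * g⁻¹, hN2.conj_mem _ t.2 g⟩ : N) = t := (huniq _ hw).trans (huniq _ ht).symm
      exact mul_inv_eq_iff_eq_mul.1 (congrArg Subtype.val this)
    have htz : (t : G) ∈ Subgroup.zpowers z := by
      rw [← hC, Subgroup.mem_centralizer_singleton_iff]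
      exact (hcen z).symm
    have h1 : orderOf (t : G) ∣ p := by
      rw [← hz, ← Nat.card_zpowers z]
      exact Subgroup.orderOf_dvd_natCard _ htz
    have h2 : orderOf (t : G) = 2 := by
      rw [Subgroup.orderOf_coe]
      have h3 : orderOf t ∣ 2 := hc ▸ orderOf_dvd_natCard t
      rcases Nat.prime_two.eq_one_or_self_of_dvd _ h3 with h4 | h4
      · exact absurd (orderOf_eq_one_iff.1 h4) ht
      · exact h4
    rw [h2] at h1
    exact hp2 ((Nat.prime_dvd_prime_iff_eq Nat.prime_two hp).1 h1).symm
  refine ⟨hdvd, ?_, hnotn, h2N⟩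
  have he : Nat.card D.H * n < p := by
    rcases Nat.lt_or_ge n 2 with h2 | h2
    · rw [show n = 1 by omega, mul_one]
      have h3 := D.card_U_mul_index D.one
      rw [D.card_U_one] at h3
      have h4 : D.V.index = Nat.card D.H := by rw [← Subgroup.index_mul_card D.V, hV, mul_one]
      have h5 : Nat.card D.H ≤ Nat.card D.H * (D.U D.one).index :=
        Nat.le_mul_of_pos_right _ (Nat.pos_of_ne_zero Subgroup.index_ne_zero_of_finite)
      rw [h4] at h3
      have := hp.two_le
      omega
    · exact Few.small ⟨hperf, hV, hcard, hF n hN, h2⟩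
  rw [hcard, pow_succ', sq]
  refine Nat.mul_lt_mul_of_pos_left ?_ hp.pos
  have h6 : Nat.card D.H * n * p + Nat.card D.H ≤ (p - 1) * p + (p - 1) := by
    refine Nat.add_le_add (Nat.mul_le_mul_right p (by omega)) ?_
    have : Nat.card D.H * 1 ≤ Nat.card D.H * n := Nat.mul_le_mul_left _ hn1
    omega
  obtain ⟨q, rfl⟩ : ∃ q, p = q + 1 := ⟨p - 1, by have := hp.two_le; omega⟩
  rw [Nat.add_sub_cancel] at h6
  nlinarith

theorem noForm_of_card {G : Type u} [Group G] {p : ℕ} [Fact p.Prime]
    (hn : 2 * Nat.card (Sylow p G) < (p + 1) * (p + 2)) (n : ℕ) (hN : Nat.card (Sylow p G) = n * p + 1) :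
    NoForm p n := by
  have hp : p.Prime := Fact.out
  rw [hN] at hn
  have h3 : 2 * n < p + 3 := by
    by_contra h4
    push Not at h4
    have := Nat.mul_le_mul_right p h4
    nlinarith
  rcases hp.eq_two_or_odd with h4 | h4
  · intro h u hh hu he
    subst h4
    have h5 : (n : ℤ) ≤ 2 := by omega
    have h6 : (n : ℤ) * (u + 1) ≤ 2 * (u + 1) := mul_le_mul_of_nonneg_right h5 (by omega)
    push_cast at he
    nlinarith [mul_le_mul hh (le_refl (u : ℤ)) (by omega) (by omega)]
  · have htwo : 2 * n ≤ p + 1 := by omega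
    exact noForm_of_small (by exact_mod_cast hp.two_le) (by exact_mod_cast htwo)

theorem card_lt_cube {G : Type u} [Group G] [Finite G] (hperf : commutator G = ⊤) (p : ℕ) [Fact p.Prime] (z : G)
    (hz : orderOf z = p) (hC : Subgroup.centralizer ({z} : Set G) = Subgroup.zpowers z)
    (hn : 2 * Nat.card (Sylow p G) < (p + 1) * (p + 2)) :
    p ∣ Nat.card G ∧ Nat.card G < p ^ 3 ∧ (∀ P : Sylow p G, ¬ (P : Subgroup G).Normal) ∧
      ∀ N : Subgroup G, N.Normal → Nat.card N ≠ 2 :=
  card_lt_cube' hperf p z hz hC (noForm_of_card hn)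

end CfsgLib.BrauerFew
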