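import Mathlib
import Cfsg.Agent.BrauerFew.Arith
import Cfsg.Agent.BrauerReynolds.Values
import Cfsg.Agent.BrauerReynolds.Perfect
import Cfsg.Agent.ZStar.Second
import Cfsg.Agent.PCore.Basic

/-!
The principal block of a perfect group with a Sylow subgroup of order `p` having `n p + 1` conjugates, where
`n` is not of the form `(h u p + u ^ 2 + u + h) / (u + 1)`: the `p'`-core is the `p'`-part of the centraliser.
-/

set_option autoImplicit false
set_option linter.style.haveILetI false
set_option linter.unusedSectionVars false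

namespace CfsgLib.BrauerFew

open Cfsg CfsgLib.CharBasics CfsgLib.DefectOne

universe u

variable {G : Type u} [Group G] [Fintype G] {p : ℕ} [Fact p.Prime]

/-- The hypotheses, with any centraliser. -/
structure Base (D : Data G p) (n : ℕ) : Prop where
  perfect : commutator G = ⊤
  card_eq : Nat.card G = p * (Nat.card D.H * (n * p + 1))
  noF : NoForm p n
  one_le : 1 ≤ n

variable {D : Data G p} {n : ℕ}

theorem Base.two_le_e (h : Base D n) : 2 ≤ D.V.index := by
  have h0 : D.V.index ≠ 0 := Subgroup.index_ne_zero_of_finite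
  by_contra hlt
  have h1 : D.V.index = 1 := by omega
  have hfac : (Nat.card G).factorization p = 1 := by
    have h1 := (D.hp.pow_dvd_iff_le_factorization Nat.card_pos.ne' (k := 1)).1
      (by rw [pow_one]; exact D.dvd_natCard_G)
    have h2 := (D.hp.pow_dvd_iff_le_factorization Nat.card_pos.ne' (k := 2)).not.1 D.hSyl
    omega
  let P : Sylow p G := Sylow.ofCard (Subgroup.zpowers D.x) (by rw [hfac, pow_one, Nat.card_zpowers, D.hx])
  refine BrauerReynolds.not_normalizer_le_centralizer h.perfect P D.dvd_natCard_G ?_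
  rw [show (P : Subgroup G) = Subgroup.zpowers D.x from rfl]
  exact Subgroup.relIndex_eq_one.1 (D.relIndex_eq.trans h1)

theorem Base.card_mul_index (_h : Base D n) : D.V.index * (D.U D.one).index = p - 1 := by
  rw [← D.card_U_one]
  exact D.card_U_mul_index D.one

theorem Base.three_le (h : Base D n) : 3 ≤ p := by
  have h1 := h.two_le_e
  have h2 := h.card_mul_index
  have h3 : 0 < (D.U D.one).index := Nat.pos_of_ne_zero Subgroup.index_ne_zero_of_finite
  have h4 : D.V.index ≤ D.V.index * (D.U D.one).index := Nat.le_mul_of_pos_right _ h3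
  omega

theorem Base.cast_et (h : Base D n) : (D.V.index : ℤ) * (D.U D.one).index = (p : ℤ) - 1 := by
  have e : ((D.V.index * (D.U D.one).index : ℕ) : ℤ) = ((p - 1 : ℕ) : ℤ) := by rw [h.card_mul_index]
  rw [Nat.cast_mul, Nat.cast_sub D.hp.one_le, Nat.cast_one] at e
  exact e

theorem centralizer_x_eq (D : Data G p) :
    Subgroup.centralizer ({D.x} : Set G) = Subgroup.centralizer (Subgroup.zpowers D.x : Set G) := by
  rw [Subgroup.zpowers_eq_closure, Subgroup.centralizer_closure]

/-- The size of the class of `x`. -/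
theorem Base.class_x (h : Base D n) :
    (Subgroup.centralizer ({D.x} : Set G)).index = D.V.index * (n * p + 1) := by
  have h1 := Subgroup.card_mul_index (Subgroup.centralizer ({D.x} : Set G))
  rw [h.card_eq, ← Subgroup.index_mul_card D.V] at h1
  have h2 : Nat.card (Subgroup.centralizer ({D.x} : Set G)) = p * Nat.card D.V := by
    rw [centralizer_x_eq, D.card_centralizer]
  rw [h2] at h1
  refine Nat.eq_of_mul_eq_mul_left (Nat.mul_pos D.hp.pos (Nat.card_pos (α := D.V))) ?_
  rw [h1]; ring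

/-- Degrees dividing the size of the class. -/
theorem dvd_index_of_sum_eq {g : G} {ι : Type*} (s : Finset ι) (φ : ι → IrrCharacter G) (f : ℕ)
    (hf : f ≠ 0) (hdeg : ∀ i ∈ s, charDegree (φ i : G → ℂ) = f) {z : ℤ} (hz : z * z = 1)
    (hsum : ∑ i ∈ s, (φ i : G → ℂ) g = (z : ℂ)) : f ∣ (Subgroup.centralizer ({g} : Set G)).index := by
  refine nat_dvd_of_isIntegral _ _ hf ?_
  have h1 : IsIntegral ℤ ((z : ℂ) * ∑ i ∈ s, centralChar (φ i : G → ℂ) g) :=
    (isIntegral_algebraMap (R := ℤ) (A := ℂ) (x := z)).mul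
      (IsIntegral.sum _ fun i _ => isIntegral_centralChar (φ i).2 g)
  have h2 : (z : ℂ) * ∑ i ∈ s, centralChar (φ i : G → ℂ) g =
      ((Subgroup.centralizer ({g} : Set G)).index : ℂ) / (f : ℂ) := by
    rw [Finset.sum_congr rfl (fun i hi => show centralChar (φ i : G → ℂ) g =
        ((Subgroup.centralizer ({g} : Set G)).index : ℂ) / (f : ℂ) * (φ i : G → ℂ) g by
      rw [centralChar, apply_one (isCharacter_of_irr (φ i).2), hdeg i hi]; ring),
      ← Finset.mul_sum, hsum, mul_left_comm]
    rw [← Int.cast_mul, hz, Int.cast_one, mul_one]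
  rwa [h2] at h1

theorem x_eq_pt (D : Data G p) : D.x = D.pt (1, 1) := by
  haveI : Fact (1 < p) := ⟨D.hp.one_lt⟩
  rw [Data.pt, ZMod.val_one, pow_one]
  simp

/-- Values of the members of the principal block at singular points. -/
theorem apply_pt_one {M : Ideal AlgInt} (hM : IsPModular p M) {χ : IrrCharacter G} (hχ : χ ∈ D.blk D.one)
    {i : ZMod p} (hi : i ≠ 0) (v : D.V) :
    (χ : G → ℂ) (D.pt (i, v)) = ∑ j, (D.d χ j D.one : ℂ) * Data.ee (i * j) := by
  rw [D.apply_pt' χ hi v, Finset.sum_eq_single D.one (fun ψ _ hψ => by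
    have : ψ ∉ D.orb D.one := by rw [D.orb_one, Finset.mem_singleton]; exact hψ
    simp [D.d_eq_zero_of_blk hM hχ this]) (fun h => absurd (Finset.mem_univ _) h), D.one_apply, mul_one]

theorem sum_nonzero_ee {i : ZMod p} (hi : i ≠ 0) (w : ZMod p → ℂ) (c : ℂ) (hw0 : w 0 = 0)
    (hw : ∀ j, j ≠ 0 → w j = c) : ∑ j, w j * Data.ee (i * j) = -c := by
  classical
  have e1 : ∀ j : ZMod p, w j * Data.ee (i * j) = c * (Data.ee (j * i) - if j = 0 then 1 else 0) := by
    intro j
    by_cases hj : j = 0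
    · subst hj; simp [hw0]
    · rw [if_neg hj, sub_zero, mul_comm i, hw j hj]
  rw [Finset.sum_congr rfl fun j _ => e1 j, ← Finset.mul_sum, Finset.sum_sub_distrib, Data.sum_ee_mul, if_neg hi]
  simp

theorem apply_pt_const {M : Ideal AlgInt} (hM : IsPModular p M) {χ : IrrCharacter G} (hχ : χ ∈ D.blk D.one)
    (hc : D.Const χ D.one) {i : ZMod p} (hi : i ≠ 0) (v : D.V) :
    (χ : G → ℂ) (D.pt (i, v)) = -(D.d χ 1 D.one : ℂ) := by
  rw [apply_pt_one hM hχ hi v]
  exact sum_nonzero_ee hi _ _ (by rw [D.d_zero, Int.cast_zero]) fun j hj => by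
    rw [show D.d χ j D.one = D.d χ 1 D.one from hc (Units.mk0 j hj) 1]

theorem deg_one_char : charDegree (D.one : D.V → ℂ) = 1 := by
  have := D.odeg_one
  rwa [Data.odeg, D.orb_one, Finset.card_singleton, one_mul] at this

/-- The degree of a member with constant vector. -/
theorem Base.const_deg (h : Base D n) {M : Ideal AlgInt} (hM : IsPModular p M) {χ : IrrCharacter G}
    (hχ : χ ∈ D.blk D.one) (hc : D.Const χ D.one) :
    (D.d χ 1 D.one = 1 ∨ D.d χ 1 D.one = -1) ∧
    (D.d χ 1 D.one = -1 → χ ≠ oneChar → charDegree (χ : G → ℂ) = n * p + 1) ∧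
    (D.d χ 1 D.one = 1 → charDegree (χ : G → ℂ) = p - 1 ∨
      (D.U D.one).index = 1 ∧ charDegree (χ : G → ℂ) = D.V.index * (n * p + 1)) := by
  classical
  have hd0 := (D.mem_blk_iff_const hc).1 hχ
  have hab := abs_le.1 (D.abs_d_le_one hM χ 1 D.one)
  have hd : D.d χ 1 D.one = 1 ∨ D.d χ 1 D.one = -1 := by omega
  have hp3 := h.three_le
  have hdeg : (p : ℤ) ∣ (charDegree (χ : G → ℂ) : ℤ) + D.d χ 1 D.one := by
    have h1 := D.deg_blk hM hχ
    rw [D.S_const hc, D.odeg_one, Nat.cast_one, mul_one] at h1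
    have h2 := dvd_add h1 (dvd_mul_right (p : ℤ) (D.d χ 1 D.one))
    ring_nf at h2 ⊢
    exact h2
  obtain ⟨c, hcc⟩ : charDegree (χ : G → ℂ) ∣ D.V.index * (n * p + 1) := by
    rw [← h.class_x]
    refine dvd_index_of_sum_eq (z := -D.d χ 1 D.one) ({χ} : Finset (IrrCharacter G)) id _
      (charDegree_pos χ.2).ne' (fun i hi => by rw [Finset.mem_singleton.1 hi]; rfl) ?_ ?_
    · rcases hd with e | e <;> rw [e] <;> norm_num
    · rw [Finset.sum_singleton, id, x_eq_pt, apply_pt_const hM hχ hc one_ne_zero]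
      push_cast; rfl
  have hcc' : (charDegree (χ : G → ℂ) : ℤ) * c = (D.V.index : ℤ) * ((n : ℤ) * p + 1) := by
    have := congrArg (fun k : ℕ => (k : ℤ)) hcc
    push_cast at this
    exact this.symm
  have he2 : (2 : ℤ) ≤ D.V.index := by exact_mod_cast h.two_le_e
  refine ⟨hd, fun e hne => ?_, fun e => ?_⟩
  · rw [e, ← sub_eq_add_neg] at hdeg
    have h2 : 2 ≤ charDegree (χ : G → ℂ) := by
      have := charDegree_pos χ.2
      by_contra hlt
      exact hne (BrauerReynolds.eq_oneChar_of_deg_one h.perfect χ (by omega))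
    have := deg_pos (p := p) (by omega) (by omega) h.cast_et h.noF hdeg (by exact_mod_cast h2) hcc' (by omega)
    exact_mod_cast this
  · rw [e] at hdeg
    rcases deg_neg (p := p) (by omega) he2 h.cast_et h.noF hdeg (by exact_mod_cast charDegree_pos χ.2) hcc'
      (by omega) with h1 | ⟨h1, h2⟩
    · left; omega
    · exact Or.inr ⟨by exact_mod_cast h1, by exact_mod_cast h2⟩

theorem sum_d_deg [Fintype (IrrCharacter G)] (D : Data G p) :
    ∑ χ : IrrCharacter G, D.d χ 1 D.one * (charDegree (χ : G → ℂ) : ℤ) = 0 := by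
  apply Int.cast_injective (α := ℂ)
  push_cast
  have h1 := D.sum_d_apply_regular 1 D.one (g := (1 : G)) (by rw [orderOf_one]; exact D.hp.not_dvd_one)
  rw [← h1]
  exact Finset.sum_congr rfl fun χ _ => by rw [apply_one (isCharacter_of_irr χ.2)]

theorem d_one_eq_zero {χ : IrrCharacter G} (hχ : χ ∉ D.blk D.one) : D.d χ 1 D.one = 0 := by
  by_contra hd
  exact hχ ⟨1, hd⟩

theorem deg_oneChar : charDegree ((oneChar : IrrCharacter G) : G → ℂ) = 1 := by
  have h1 := apply_one (isCharacter_of_irr (oneChar : IrrCharacter G).2)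
  rw [oneChar_apply] at h1
  exact_mod_cast h1.symm

/-- The block has members of degree `p - 1` and of degree `n p + 1`, when all vectors are constant. -/
theorem Base.exists_of_index_one (h : Base D n) {M : Ideal AlgInt} (hM : IsPModular p M)
    (ht : (D.U D.one).index = 1) :
    (∃ χ ∈ D.blk D.one, D.Const χ D.one ∧ D.d χ 1 D.one = 1 ∧ charDegree (χ : G → ℂ) = p - 1) ∧
      ∃ χ ∈ D.blk D.one, charDegree (χ : G → ℂ) = n * p + 1 := by
  classical
  haveI : Fintype (IrrCharacter G) := Fintype.ofFinite _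
  haveI hss : Subsingleton (D.Idx D.one) := by
    rw [← Fintype.card_le_one_iff_subsingleton, D.card_Idx, ht]
  have hconst : ∀ χ, D.Const χ D.one := fun χ => D.subsingleton_const χ D.one fun a b => Subsingleton.elim a b
  have hp3 := h.three_le
  have hs := sum_d_deg D
  rw [← Finset.sum_erase_add _ _ (Finset.mem_univ (oneChar : IrrCharacter G)),
    BrauerReynolds.d_oneChar D one_ne_zero, deg_oneChar] at hs
  have het := h.card_mul_index
  rw [ht, mul_one] at het
  constructor
  · by_contra hne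
    push Not at hne
    have hdvd : ((n * p + 1 : ℕ) : ℤ) ∣ ∑ χ ∈ Finset.univ.erase (oneChar : IrrCharacter G),
        D.d χ 1 D.one * (charDegree (χ : G → ℂ) : ℤ) := by
      refine Finset.dvd_sum fun χ hχ => ?_
      by_cases hb : χ ∈ D.blk D.one
      · obtain ⟨h1, h2, h3⟩ := h.const_deg hM hb (hconst χ)
        rcases h1 with e | e
        · rcases h3 e with h4 | ⟨-, h4⟩
          · exact absurd h4 (hne χ hb (hconst χ) e)
          · rw [h4, e, one_mul]; exact Int.natCast_dvd_natCast.2 (dvd_mul_left _ _)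
        · rw [h2 e (Finset.mem_erase.1 hχ).1]; exact dvd_mul_left _ _
      · rw [d_one_eq_zero hb, zero_mul]; exact dvd_zero _
    have h5 : ((n * p + 1 : ℕ) : ℤ) ∣ 1 := by
      have h6 : ∑ χ ∈ Finset.univ.erase (oneChar : IrrCharacter G),
          D.d χ 1 D.one * (charDegree (χ : G → ℂ) : ℤ) = 1 := by push_cast at hs; linarith
      rwa [h6] at hdvd
    have h7 := Nat.le_of_dvd one_pos (Int.natCast_dvd_natCast.1 h5)
    have : 1 * 3 ≤ n * p := Nat.mul_le_mul h.one_le hp3
    omega
  · by_contra hne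
    push Not at hne
    have hdvd : ((p - 1 : ℕ) : ℤ) ∣ ∑ χ ∈ Finset.univ.erase (oneChar : IrrCharacter G),
        D.d χ 1 D.one * (charDegree (χ : G → ℂ) : ℤ) := by
      refine Finset.dvd_sum fun χ hχ => ?_
      by_cases hb : χ ∈ D.blk D.one
      · obtain ⟨h1, h2, h3⟩ := h.const_deg hM hb (hconst χ)
        rcases h1 with e | e
        · rcases h3 e with h4 | ⟨-, h4⟩
          · rw [h4]; exact dvd_mul_left _ _
          · rw [h4, het, e, one_mul]; exact Int.natCast_dvd_natCast.2 (dvd_mul_right _ _)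
        · exact absurd (h2 e (Finset.mem_erase.1 hχ).1) (hne χ hb)
      · rw [d_one_eq_zero hb, zero_mul]; exact dvd_zero _
    have h5 : ((p - 1 : ℕ) : ℤ) ∣ 1 := by
      have h6 : ∑ χ ∈ Finset.univ.erase (oneChar : IrrCharacter G),
          D.d χ 1 D.one * (charDegree (χ : G → ℂ) : ℤ) = 1 := by push_cast at hs; linarith
      rwa [h6] at hdvd
    have h7 := Nat.le_of_dvd one_pos (Int.natCast_dvd_natCast.1 h5)
    omega

/-- The block has members of degree `p - 1` and of degree `n p + 1` or an exceptional one of degree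
`(n p + 1) / t`. -/
theorem Base.exists_of_family (h : Base D n) {M : Ideal AlgInt} (hM : IsPModular p M)
    (ht : 2 ≤ (D.U D.one).index) :
    (∃ χ ∈ D.blk D.one, D.Const χ D.one ∧ D.d χ 1 D.one = 1 ∧ charDegree (χ : G → ℂ) = p - 1) ∧
      ∃ χ ∈ D.blk D.one, charDegree (χ : G → ℂ) = n * p + 1 ∨
        (D.U D.one).index * charDegree (χ : G → ℂ) = n * p + 1 := by
  classical
  haveI : Fintype (IrrCharacter G) := Fintype.ofFinite _
  obtain ⟨F⟩ := D.exists_family hM D.one
  have hp3 := h.three_le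
  have he2 := h.two_le_e
  have hone : oneChar ∈ D.rest F := by
    refine ⟨D.oneChar_mem_blk, ?_⟩
    rintro ⟨q, hq⟩
    obtain ⟨a, ha⟩ : ∃ a : (ZMod p)ˣ, q ≠ D.cls D.one a := by
      haveI : Nontrivial (D.Idx D.one) := Fintype.one_lt_card_iff_nontrivial.1 (by rw [D.card_Idx]; omega)
      obtain ⟨q', hq'⟩ := exists_ne q
      obtain ⟨a, ha⟩ := D.cls_surj D.one q'
      exact ⟨a, ha ▸ hq'.symm⟩
    have h1 := F.d_eq' q a
    rw [if_neg ha, hq, BrauerReynolds.d_oneChar D a.ne_zero] at h1
    omega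
  set R : Finset (IrrCharacter G) := Finset.univ.filter fun χ => χ ∈ D.rest F ∧ χ ≠ oneChar with hR
  have hmemR : ∀ χ, χ ∈ R ↔ χ ∈ D.rest F ∧ χ ≠ oneChar := fun χ => by simp [hR]
  set A := R.filter fun χ => D.d χ 1 D.one = -1 with hA
  set B := R.filter fun χ => ¬ D.d χ 1 D.one = -1 with hB
  have hdata : ∀ χ ∈ R, D.Const χ D.one ∧ χ ∈ D.blk D.one ∧
      (D.d χ 1 D.one = -1 → charDegree (χ : G → ℂ) = n * p + 1) ∧
      (¬ D.d χ 1 D.one = -1 → D.d χ 1 D.one = 1 ∧ charDegree (χ : G → ℂ) = p - 1) := by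
    intro χ hχ
    obtain ⟨h1, h2⟩ := (hmemR χ).1 hχ
    obtain ⟨h3, h4, h5⟩ := h.const_deg hM h1.1 (F.const χ h1.2)
    refine ⟨F.const χ h1.2, h1.1, fun e => h4 e h2, fun e => ?_⟩
    have e1 := h3.resolve_right e
    exact ⟨e1, (h5 e1).resolve_right fun h6 => by omega⟩
  have hRc : R.card + 1 = D.V.index := by
    have h1 : (Finset.univ.filter fun χ : IrrCharacter G => χ ∈ D.rest F).card = D.V.index := by
      rw [← D.card_U_one, ← D.card_rest hM F, Nat.card_eq_fintype_card, Fintype.card_subtype]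
    have h2 : R = (Finset.univ.filter fun χ : IrrCharacter G => χ ∈ D.rest F).erase oneChar := by
      ext χ; simp [hR, and_comm]
    rw [h2, Finset.card_erase_of_mem (by simp [hone]), h1]
    omega
  have hAB : A.card + B.card = R.card := Finset.card_filter_add_card_filter_not _
  have hdθ : ∀ q, D.d (F.θ q) 1 D.one = if q = D.cls D.one 1 then F.ε else 0 := fun q => by
    rw [← Units.val_one, F.d_eq']
  set q₁ := D.cls D.one 1
  set f := charDegree (F.θ q₁ : G → ℂ) with hf
  have hrel : (F.ε : ℤ) * f = 1 + (A.card : ℤ) * ((n : ℤ) * p + 1) - (B.card : ℤ) * ((p : ℤ) - 1) := by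
    have hs := sum_d_deg D
    have hsplit : ∀ χ : IrrCharacter G, D.d χ 1 D.one * (charDegree (χ : G → ℂ) : ℤ) =
        (if χ = F.θ q₁ then (F.ε : ℤ) * f else 0) + (if χ = oneChar then -1 else 0) +
        (if χ ∈ A then -((n : ℤ) * p + 1) else 0) + (if χ ∈ B then (p : ℤ) - 1 else 0) := by
      intro χ
      by_cases hR' : χ ∈ R
      · obtain ⟨-, -, h1, h2⟩ := hdata χ hR'
        obtain ⟨h3, h4⟩ := (hmemR χ).1 hR'
        rw [if_neg (show ¬ χ = F.θ q₁ from fun e => h3.2 ⟨q₁, e.symm⟩), if_neg h4]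
        by_cases e : D.d χ 1 D.one = -1
        · rw [if_pos (show χ ∈ A by simp [hA, hR', e]), if_neg (show ¬ χ ∈ B by simp [hB, e]), h1 e, e]
          push_cast; ring
        · rw [if_neg (show ¬ χ ∈ A by simp [hA, e]), if_pos (show χ ∈ B by simp [hB, hR', e]), (h2 e).1, (h2 e).2,
            Nat.cast_sub D.hp.one_le]
          push_cast; ring
      · rw [if_neg (show ¬ χ ∈ A from fun hh => hR' (Finset.mem_filter.1 hh).1),
          if_neg (show ¬ χ ∈ B from fun hh => hR' (Finset.mem_filter.1 hh).1)]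
        by_cases h1 : χ = oneChar
        · subst h1
          rw [if_neg (show ¬ (oneChar : IrrCharacter G) = F.θ q₁ from fun e => hone.2 ⟨q₁, e.symm⟩), if_pos rfl,
            BrauerReynolds.d_oneChar D one_ne_zero, deg_oneChar]
          norm_num
        · rw [if_neg h1]
          by_cases h2 : χ ∈ Set.range F.θ
          · obtain ⟨q, rfl⟩ := h2
            simp only [hdθ, F.inj.eq_iff]
            split_ifs with e
            · subst e; rw [hf]; ring
            · ring
          · have h3 : χ ∉ D.blk D.one := fun hb => hR' ((hmemR χ).2 ⟨⟨hb, h2⟩, h1⟩)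
            rw [d_one_eq_zero h3, if_neg fun e => h2 ⟨q₁, e.symm⟩]
            ring
    rw [Finset.sum_congr rfl fun χ _ => hsplit χ] at hs
    simp only [Finset.sum_add_distrib, Finset.sum_ite_eq', Finset.mem_univ, if_true, Finset.sum_ite_mem,
      Finset.univ_inter, Finset.sum_const, nsmul_eq_mul] at hs
    linear_combination hs
  -- the exceptional degree
  have hθf : ∀ q, charDegree (F.θ q : G → ℂ) = f := by
    have h0 : ∀ q, charDegree (F.θ q : G → ℂ) = charDegree (F.θ 1 : G → ℂ) := fun q => by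
      have h1 := D.theta_regular F q (g := 1) (by rw [orderOf_one]; exact D.hp.not_dvd_one)
      rw [apply_one (isCharacter_of_irr (F.θ q).2), apply_one (isCharacter_of_irr (F.θ 1).2)] at h1
      exact_mod_cast h1
    intro q; rw [hf, h0 q, h0 q₁]
  have hf1 : f ≠ 1 := fun e =>
    hone.2 ⟨q₁, BrauerReynolds.eq_oneChar_of_deg_one h.perfect _ e⟩
  obtain ⟨c, hc⟩ : f ∣ D.V.index * (n * p + 1) := by
    rw [← h.class_x]
    refine dvd_index_of_sum_eq (z := -F.ε) Finset.univ F.θ f (charDegree_pos (F.θ q₁).2).ne'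
      (fun q _ => hθf q) ?_ ?_
    · rcases F.sign with e | e <;> rw [e] <;> norm_num
    · simp only [x_eq_pt, apply_pt_one hM (D.theta_mem_blk F _) one_ne_zero]
      rw [Finset.sum_comm]
      simp only [← Finset.sum_mul]
      rw [sum_nonzero_ee one_ne_zero _ (F.ε : ℂ) (by simp [D.d_zero]) fun j hj => ?_]
      · push_cast; rfl
      · rw [← Units.val_mk0 hj]
        simp only [F.d_eq', Int.cast_ite, Int.cast_zero, Finset.sum_ite_eq', Finset.mem_univ, if_true]
  have hc' : (f : ℤ) * c = (D.V.index : ℤ) * ((n : ℤ) * p + 1) := by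
    have := congrArg (fun k : ℕ => (k : ℤ)) hc
    push_cast at this
    exact this.symm
  have hsum : (A.card : ℤ) + B.card = (D.V.index : ℤ) - 1 := by omega
  obtain ⟨r, hr⟩ : ∃ r : ℤ, (F.ε : ℤ) * f = D.V.index + r * p := by
    refine ⟨(A.card : ℤ) * n - B.card, ?_⟩
    rw [hrel]
    linear_combination hsum
  have hep : (D.V.index : ℤ) < p := by
    have h1 : D.V.index ≤ D.V.index * (D.U D.one).index := Nat.le_mul_of_pos_right _ (by omega)
    rw [h.card_mul_index] at h1
    omega
  have hfpos : (0 : ℤ) < f := by exact_mod_cast charDegree_pos (F.θ q₁).2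
  have hn1 : (1 : ℤ) ≤ n := by exact_mod_cast h.one_le
  have hp3' : (3 : ℤ) ≤ p := by exact_mod_cast hp3
  have he2' : (2 : ℤ) ≤ D.V.index := by exact_mod_cast he2
  have hNge : (4 : ℤ) ≤ (n : ℤ) * p + 1 := by nlinarith
  have hpos : F.ε = 1 → 1 ≤ r → False := fun hs hr1 => by
    rw [hs, one_mul] at hr hrel
    have := exceptional_pos (p := p) (c := c) (by omega) he2' h.cast_et h.noF hr1 (by rw [← hr]; exact hc')
      (by omega)
    rw [this, mul_one] at hc'
    have h1 : (0 : ℤ) ≤ (B.card : ℤ) * ((p : ℤ) - 1) := mul_nonneg (Int.natCast_nonneg _) (by omega)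
    have h2 : (A.card : ℤ) * ((n : ℤ) * p + 1) ≤ ((D.V.index : ℤ) - 1) * ((n : ℤ) * p + 1) :=
      mul_le_mul_of_nonneg_right (by omega) (by omega)
    nlinarith
  refine ⟨?_, ?_⟩
  · rcases Finset.eq_empty_or_nonempty B with hB0 | ⟨χ, hχ⟩
    · exfalso
      rw [hB0, Finset.card_empty, Nat.cast_zero, zero_mul, sub_zero] at hrel
      rw [hB0, Finset.card_empty, Nat.cast_zero, add_zero] at hsum
      have hs : F.ε = 1 := F.sign.resolve_right fun e => by
        rw [e] at hrel
        have : (0 : ℤ) ≤ (A.card : ℤ) * ((n : ℤ) * p + 1) := mul_nonneg (Int.natCast_nonneg _) (by omega)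
        linarith
      refine hpos hs ?_
      rw [hsum] at hrel
      have h1 : r * (p : ℤ) = (((D.V.index : ℤ) - 1) * n) * p := by linear_combination hrel - hr
      rw [mul_right_cancel₀ (by omega) h1]
      nlinarith
    · obtain ⟨h1, h2⟩ := Finset.mem_filter.1 hχ
      obtain ⟨hc1, hb, -, h3⟩ := hdata χ h1
      exact ⟨χ, hb, hc1, h3 h2⟩
  · rcases Finset.eq_empty_or_nonempty A with hA0 | ⟨χ, hχ⟩
    · rw [hA0, Finset.card_empty, Nat.cast_zero, zero_add] at hsum
      rw [hA0, Finset.card_empty, Nat.cast_zero, zero_mul, add_zero, hsum] at hrel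
      have h0 : (1 : ℤ) * 2 ≤ ((D.V.index : ℤ) - 1) * ((p : ℤ) - 1) :=
        mul_le_mul (by omega) (by omega) (by omega) (by omega)
      have hs : F.ε = -1 := F.sign.resolve_left fun e => by
        rw [e] at hrel
        linarith
      rw [hs] at hr
      have hf' : (f : ℤ) = -r * p - D.V.index := by linarith
      have hr1 : 1 ≤ -r := by nlinarith
      have h1 := exceptional_param (p := p) (c := c) (r := -r) (by omega) he2' h.cast_et h.noF hr1
        (by rw [← hf']; exact hc') (by omega) (by rw [← hf']; exact_mod_cast hf1)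
      refine ⟨F.θ q₁, D.theta_mem_blk F q₁, Or.inr ?_⟩
      have h2 : ((D.U D.one).index : ℤ) * f = (n : ℤ) * p + 1 := by
        linear_combination ((D.U D.one).index : ℤ) * hf' - (p : ℤ) * h1 - h.cast_et
      exact_mod_cast h2
    · obtain ⟨h1, h2⟩ := Finset.mem_filter.1 hχ
      obtain ⟨-, hb, h3, -⟩ := hdata χ h1
      exact ⟨χ, hb, Or.inl (h3 h2)⟩

/-- The character of degree `p - 1` is trivial on `V`. -/
theorem apply_V_eq_degree {M : Ideal AlgInt} (hM : IsPModular p M) {χ : IrrCharacter G} (hχ : χ ∈ D.blk D.one)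
    (hc : D.Const χ D.one) (hd : D.d χ 1 D.one = 1) (hdeg : charDegree (χ : G → ℂ) = p - 1) (v : D.V) :
    (χ : G → ℂ) ((v : D.H) : G) = (χ : G → ℂ) 1 := by
  classical
  choose m hm using fun ψ : IrrCharacter D.V => D.exists_nat_mm (isCharacter_of_irr χ.2) 0 (isCharacter_of_irr ψ.2)
  have hv : ∀ w : D.V, (χ : G → ℂ) ((w : D.H) : G) =
      ∑ ψ : IrrCharacter D.V, ((p : ℂ) * m ψ) * (ψ : D.V → ℂ) w + ((p : ℂ) - 1) := by
    intro w
    rw [D.apply_V (Data.isClassFunction_irr χ) w]
    simp only [hm, ← D.d_eq, add_mul, Finset.sum_add_distrib]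
    congr 1
    rw [Finset.sum_eq_single D.one (fun ψ _ hψ => by
      have : ψ ∉ D.orb D.one := by rw [D.orb_one, Finset.mem_singleton]; exact hψ
      simp [D.d_eq_zero_of_blk hM hχ this]) (fun h => absurd (Finset.mem_univ _) h), D.one_apply, mul_one]
    have := D.S_const hc
    rw [hd, mul_one, Data.S] at this
    exact_mod_cast congrArg (fun k : ℤ => (k : ℂ)) this
  have h1 := hv 1
  rw [OneMemClass.coe_one, OneMemClass.coe_one, apply_one (isCharacter_of_irr χ.2), hdeg,
    Nat.cast_sub D.hp.one_le, Nat.cast_one] at h1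
  simp only [fun ψ : IrrCharacter D.V => apply_one (isCharacter_of_irr ψ.2)] at h1
  have h2 : ∑ ψ : IrrCharacter D.V, p * (m ψ * charDegree (ψ : D.V → ℂ)) = 0 := by
    have h3 : ((∑ ψ : IrrCharacter D.V, p * (m ψ * charDegree (ψ : D.V → ℂ)) : ℕ) : ℂ) = 0 := by
      push_cast
      simp only [mul_assoc] at h1
      linear_combination -h1
    exact_mod_cast h3
  have h3 : ∀ ψ, m ψ = 0 := fun ψ => by
    have h4 := (Finset.sum_eq_zero_iff.1 h2) ψ (Finset.mem_univ _)
    rcases Nat.mul_eq_zero.1 h4 with e | e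
    · exact absurd e D.hp.ne_zero
    · rcases Nat.mul_eq_zero.1 e with e' | e'
      · exact e'
      · exact absurd e' (charDegree_pos ψ.2).ne'
  rw [hv v, apply_one (isCharacter_of_irr χ.2), hdeg, Nat.cast_sub D.hp.one_le, Nat.cast_one]
  simp [h3]

/-- The `p'`-part of the centraliser lies in the `p'`-core. -/
theorem Base.V_le_core (h : Base D n) {M : Ideal AlgInt} (hM : IsPModular p M) (v : D.V) :
    ((v : D.H) : G) ∈ pPrimeCore p G := by
  have hp3 := h.three_le
  obtain ⟨χ, hb, hc, hd, hdeg⟩ : ∃ χ ∈ D.blk D.one, D.Const χ D.one ∧ D.d χ 1 D.one = 1 ∧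
      charDegree (χ : G → ℂ) = p - 1 := by
    by_cases ht : (D.U D.one).index = 1
    · exact (h.exists_of_index_one hM ht).1
    · have : (D.U D.one).index ≠ 0 := Subgroup.index_ne_zero_of_finite
      exact (h.exists_of_family hM (by omega)).1
  refine CfsgLib.PCore.le_pPrimeCore_of_not_dvd (charKer_normal (isCharacter_of_irr χ.2)) (fun hdvd => ?_)
    ((mem_charKer _ _).2 (apply_V_eq_degree hM hb hc hd hdeg v))
  obtain ⟨g, hg⟩ := exists_prime_orderOf_dvd_card' p hdvd
  obtain ⟨y, i, w, hi, hy⟩ := D.exists_conj_pt (g := (g : G)) (by rw [Subgroup.orderOf_coe, hg])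
  have h1 := (mem_charKer _ _).1 g.2
  rw [← Data.isClassFunction_irr χ (g : G) y, hy, apply_pt_const hM hb hc hi, hd,
    apply_one (isCharacter_of_irr χ.2), hdeg, Nat.cast_sub D.hp.one_le, Nat.cast_one, Int.cast_one] at h1
  exact D.hp.ne_zero (Nat.cast_eq_zero.1 (show (p : ℂ) = 0 by linear_combination -h1))

/-- The `p'`-core centralises `x`. -/
theorem Base.core_le_centralizer (h : Base D n) :
    pPrimeCore p G ≤ Subgroup.centralizer ({D.x} : Set G) := by
  classical
  obtain ⟨M, hM⟩ := CfsgLib.Blocks.exists_modular D.hp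
  set C := pPrimeCore p G with hC
  haveI hCn : C.Normal := (CfsgLib.PCore.pPrimeCore_mem p G).1
  have hCp : ¬ p ∣ Nat.card C := CfsgLib.PCore.not_dvd_card_pPrimeCore p G
  set W := Subgroup.centralizer ({D.x} : Set G) ⊓ C with hW
  have hWV : W = D.V.map D.H.subtype := by
    apply le_antisymm
    · rintro g ⟨hg1, hg2⟩
      obtain ⟨⟨i, v⟩, rfl⟩ := D.exists_pt (g := g) (Subgroup.mem_centralizer_singleton_iff.1 hg1)
      have hxi : D.x ^ i.val ∈ C := by
        have := C.mul_mem hg2 (C.inv_mem (h.V_le_core hM v))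
        rwa [Data.pt, mul_inv_cancel_right] at this
      have hi : i = 0 := by
        by_contra hi
        refine hCp ?_
        rw [← D.orderOf_x_pow hi, ← Nat.card_zpowers]
        exact Subgroup.card_dvd_of_le (Subgroup.zpowers_le.2 hxi)
      subst hi
      exact ⟨(v : D.H), v.2, by simp [Data.pt]⟩
    · rintro g ⟨v, hv, rfl⟩
      exact ⟨Subgroup.mem_centralizer_singleton_iff.2 (D.mem_V.1 hv), h.V_le_core hM ⟨v, hv⟩⟩
  have hWc : Nat.card W = Nat.card D.V := by
    rw [hWV]
    exact (Nat.card_congr (Subgroup.equivMapOfInjective D.V D.H.subtype Subtype.val_injective).toEquiv).symm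
  obtain ⟨w, hw⟩ : Nat.card W ∣ Nat.card C := Subgroup.card_dvd_of_le inf_le_right
  have hwmod : Nat.card C ≡ Nat.card W [MOD p] := by
    let φ : Subgroup.zpowers D.x →* MulAut C := (MulAut.conjNormal).comp (Subgroup.zpowers D.x).subtype
    letI : MulAction (Subgroup.zpowers D.x) C := MulAction.compHom C φ
    have hPg : IsPGroup p (Subgroup.zpowers D.x) :=
      IsPGroup.of_card (n := 1) (by rw [Nat.card_zpowers, D.hx, pow_one])
    rw [show Nat.card W = Nat.card (MulAction.fixedPoints (Subgroup.zpowers D.x) C) from ?_]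
    · exact hPg.card_modEq_card_fixedPoints C
    symm
    refine Nat.card_congr ⟨fun c => ⟨(c.1 : G), ⟨Subgroup.mem_centralizer_singleton_iff.2 ?_, c.1.2⟩⟩,
      fun g => ⟨⟨(g : G), g.2.2⟩, fun a => Subtype.ext ?_⟩, fun c => rfl, fun g => rfl⟩
    · have h1 : D.x * (c.1 : G) * D.x⁻¹ = (c.1 : G) :=
        congrArg Subtype.val (c.2 ⟨D.x, Subgroup.mem_zpowers D.x⟩)
      exact (mul_inv_eq_iff_eq_mul.1 h1).symm
    · obtain ⟨k, hk⟩ := Subgroup.mem_zpowers_iff.1 a.2
      show (a : G) * (g : G) * (a : G)⁻¹ = (g : G)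
      have h1 : Commute (g : G) D.x := Subgroup.mem_centralizer_singleton_iff.1 g.2.1
      rw [← hk, ← (h1.zpow_right k).eq, mul_inv_cancel_right]
  have hw1 : (p : ℤ) ∣ (w : ℤ) - 1 := by
    have h1 : (p : ℤ) ∣ (Nat.card W : ℤ) * ((w : ℤ) - 1) := by
      rw [hw] at hwmod
      have := Nat.modEq_iff_dvd.1 hwmod.symm
      push_cast at this
      convert this using 1
      ring
    refine ((Nat.prime_iff_prime_int.1 D.hp).dvd_mul.1 h1).resolve_left fun e => ?_
    rw [hWc] at e
    exact D.not_dvd_card_V (Int.natCast_dvd_natCast.1 e)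
  have hker : ∀ χ ∈ D.blk D.one, charDegree (χ : G → ℂ) * w ∣ D.V.index * (n * p + 1) := by
    intro χ hχ
    obtain ⟨ψ, hψ⟩ := exists_quotient_irr χ C fun g hg =>
      CfsgLib.ZStar.pPrimeCore_le_ker hM (by rw [D.principalBlock_eq hM]; exact hχ) hg
    have hdeg : charDegree (χ : G → ℂ) = charDegree (ψ : G ⧸ C → ℂ) := by
      have h1 : (ψ : G ⧸ C → ℂ) ((1 : G) : G ⧸ C) = (χ : G → ℂ) 1 := hψ 1
      rw [QuotientGroup.mk_one, apply_one (isCharacter_of_irr ψ.2), apply_one (isCharacter_of_irr χ.2)] at h1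
      exact_mod_cast h1.symm
    obtain ⟨k, hk⟩ := hdeg ▸ degree_dvd ψ
    have h2 := C.card_eq_card_quotient_mul_card_subgroup
    rw [hk, hw, hWc, h.card_eq, ← Subgroup.index_mul_card D.V] at h2
    have h3 : p * (D.V.index * (n * p + 1)) = charDegree (χ : G → ℂ) * w * k := by
      refine Nat.eq_of_mul_eq_mul_left (Nat.card_pos (α := D.V)) ?_
      linear_combination h2
    refine BrauerReynolds.degree_dvd_part D.hp (fun hd => ?_) ⟨k, h3⟩
    rcases D.hp.dvd_mul.1 hd with e | e
    · exact D.not_dvd_deg_blk hM hχ e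
    · refine hCp (e.trans ⟨Nat.card W, ?_⟩)
      rw [hw, mul_comm]
  have hp3 := h.three_le
  have het := h.card_mul_index
  have hwdvd : w ∣ D.V.index ∨ w ∣ p - 1 := by
    obtain ⟨χ, hb, hχ⟩ : ∃ χ ∈ D.blk D.one, charDegree (χ : G → ℂ) = n * p + 1 ∨
        (D.U D.one).index * charDegree (χ : G → ℂ) = n * p + 1 := by
      by_cases ht : (D.U D.one).index = 1
      · obtain ⟨χ, hb, hχ⟩ := (h.exists_of_index_one hM ht).2
        exact ⟨χ, hb, Or.inl hχ⟩
      · have : (D.U D.one).index ≠ 0 := Subgroup.index_ne_zero_of_finite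
        exact (h.exists_of_family hM (by omega)).2
    have h1 := hker χ hb
    rcases hχ with e | e
    · left
      rw [e, mul_comm D.V.index] at h1
      exact Nat.dvd_of_mul_dvd_mul_left (Nat.succ_pos _) h1
    · right
      rw [← e, ← mul_assoc, het, mul_comm (p - 1)] at h1
      exact Nat.dvd_of_mul_dvd_mul_left (charDegree_pos χ.2) h1
  have hwp : w < p := by
    have h1 : 0 < (D.U D.one).index := Nat.pos_of_ne_zero Subgroup.index_ne_zero_of_finite
    have h2 : D.V.index ≤ D.V.index * (D.U D.one).index := Nat.le_mul_of_pos_right _ h1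
    rcases hwdvd with e | e
    · have := Nat.le_of_dvd (by have := h.two_le_e; omega) e; omega
    · have := Nat.le_of_dvd (by omega) e; omega
  have hweq : w = 1 := by
    obtain ⟨k, hk⟩ := hw1
    rcases lt_trichotomy k 0 with hk0 | rfl | hk0
    · have : (p : ℤ) * k ≤ (p : ℤ) * (-1) := mul_le_mul_of_nonneg_left (by omega) (by omega)
      omega
    · omega
    · have : (p : ℤ) * 1 ≤ (p : ℤ) * k := mul_le_mul_of_nonneg_left (by omega) (by omega)
      omega
  rw [hweq, mul_one] at hw
  exact le_trans (Subgroup.eq_of_le_of_card_ge inf_le_right hw.le).ge inf_le_left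

end CfsgLib.BrauerFew
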