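import Mathlib
import Cfsg.Agent.BrauerFew.Pre
import Cfsg.Agent.BrauerFew.Main

/-!
Reduction of a perfect group with a Sylow subgroup of order `p` to the case of a self centralising one.
-/

set_option autoImplicit false
set_option linter.style.haveILetI false

namespace CfsgLib.BrauerFew

open Cfsg CfsgLib.DefectOne

universe u

/-- The quotient by the `p'`-core has order less than `p ^ 3`, unless `n = (h u p + u ^ 2 + u + h) / (u + 1)`. -/
theorem quotient_small {G : Type u} [Group G] [Finite G] (hperf : commutator G = ⊤) (p : ℕ) [Fact p.Prime]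
    (P : Sylow p G) (hP : Nat.card P = p) {n : ℕ} (hn : Nat.card (Sylow p G) = n * p + 1) (hF : NoForm p n) :
    p ∣ Nat.card (G ⧸ pPrimeCore p G) ∧ Nat.card (G ⧸ pPrimeCore p G) < p ^ 3 ∧
      (∀ Q : Sylow p (G ⧸ pPrimeCore p G), ¬ (Q : Subgroup (G ⧸ pPrimeCore p G)).Normal) ∧
      ∀ N : Subgroup (G ⧸ pPrimeCore p G), N.Normal → Nat.card N ≠ 2 := by
  classical
  haveI : Fintype G := Fintype.ofFinite G
  have hp : p.Prime := Fact.out
  obtain ⟨D, hD⟩ := exists_data P hP
  have hdvd : p ∣ Nat.card G := D.dvd_natCard_G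
  have hn1 : 1 ≤ n := by
    by_contra h0
    rw [show n = 0 by omega, zero_mul, zero_add, P.card_eq_index_normalizer] at hn
    haveI hN : (P : Subgroup G).Normal := Subgroup.normalizer_eq_top_iff.1 (Subgroup.index_eq_one.1 hn)
    refine BrauerReynolds.not_normalizer_le_centralizer hperf P hdvd fun g _ => ?_
    haveI hcy : IsCyclic (P : Subgroup G) := isCyclic_of_prime_card hP
    let A := MulAut (P : Subgroup G)
    letI : CommGroup A :=
      { (inferInstance : Group A) with
        mul_comm := fun a b => (IsCyclic.mulAutMulEquiv (P : Subgroup G)).injective (by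
          rw [map_mul, map_mul, mul_comm]) }
    refine Subgroup.mem_centralizer_iff.2 fun y hy => ?_
    have h1 := BrauerReynolds.eq_one_of_perfect (A := A) hperf (MulAut.conjNormal (H := (P : Subgroup G))) g
    have h3 := MulAut.conjNormal_apply g (⟨y, hy⟩ : (P : Subgroup G))
    rw [h1] at h3
    exact (mul_inv_eq_iff_eq_mul.1 (h3.symm : g * y * g⁻¹ = y)).symm
  have hcard : Nat.card G = p * (Nat.card D.H * (n * p + 1)) := by
    rw [← hn, ← mul_assoc, ← D.card_normalizer, hD, P.card_eq_index_normalizer]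
    exact (Subgroup.card_mul_index (Subgroup.normalizer ((P : Subgroup G) : Set G))).symm
  have hB : Base D n := ⟨hperf, hcard, hF, hn1⟩
  obtain ⟨M, hM⟩ := CfsgLib.Blocks.exists_modular hp
  set C := pPrimeCore p G with hC
  haveI hCn : C.Normal := (CfsgLib.PCore.pPrimeCore_mem p G).1
  have hCp : ¬ p ∣ Nat.card C := CfsgLib.PCore.not_dvd_card_pPrimeCore p G
  have hcen := hB.core_le_centralizer
  let q : G →* G ⧸ C := QuotientGroup.mk' C
  have hq : Function.Surjective q := QuotientGroup.mk'_surjective C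
  -- conjugates of `x` congruent to powers of `x` are powers of `x`
  have hlift : ∀ (g : G) (k : ℕ), q (g * D.x * g⁻¹) = q (D.x ^ k) → g * D.x * g⁻¹ = D.x ^ k := by
    intro g k hk
    obtain ⟨c, hc, he⟩ : ∃ c ∈ C, g * D.x * g⁻¹ = D.x ^ k * c :=
      ⟨(D.x ^ k)⁻¹ * (g * D.x * g⁻¹), QuotientGroup.eq.1 hk.symm, by group⟩
    have hcx : Commute c D.x := Subgroup.mem_centralizer_singleton_iff.1 (hcen hc)
    have hcomm : Commute (D.x ^ k) c := hcx.symm.pow_left k
    have hxp : D.x ^ p = 1 := orderOf_dvd_iff_pow_eq_one.1 (dvd_of_eq D.hx)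
    have h1 : c ^ p = 1 := by
      have h2 : (g * D.x * g⁻¹) ^ p = 1 := by
        rw [conj_pow, hxp, mul_one, mul_inv_cancel]
      rwa [he, hcomm.mul_pow, ← pow_mul, mul_comm k, pow_mul, hxp, one_pow, one_mul] at h2
    have h3 : c = 1 := by
      rw [← orderOf_eq_one_iff]
      rcases hp.eq_one_or_self_of_dvd _ (orderOf_dvd_of_pow_eq_one h1) with e | e
      · exact e
      · exact absurd (e ▸ Subgroup.orderOf_dvd_natCard C hc) hCp
    rw [he, h3, mul_one]
  have hxC : D.x ∉ C := fun hx => hCp (D.hx ▸ Subgroup.orderOf_dvd_natCard C hx)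
  have hz : orderOf (q D.x) = p := by
    rcases hp.eq_one_or_self_of_dvd _ (D.hx ▸ orderOf_map_dvd q D.x) with e | e
    · exact absurd ((QuotientGroup.eq_one_iff _).1 (orderOf_eq_one_iff.1 e)) hxC
    · exact e
  have hCz : Subgroup.centralizer ({q D.x} : Set (G ⧸ C)) = Subgroup.zpowers (q D.x) := by
    refine le_antisymm (fun y hy => ?_) ?_
    · obtain ⟨g, rfl⟩ := hq y
      have h1 : q (g * D.x * g⁻¹) = q (D.x ^ 1) := by
        rw [map_mul, map_mul, map_inv, pow_one, (Subgroup.mem_centralizer_singleton_iff.1 hy), mul_inv_cancel_right]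
      have h2 := hlift g 1 h1
      rw [pow_one] at h2
      obtain ⟨⟨i, v⟩, rfl⟩ := D.exists_pt (g := g) (mul_inv_eq_iff_eq_mul.1 h2)
      rw [Data.pt, map_mul, map_pow, show q ((v : D.H) : G) = 1 from (QuotientGroup.eq_one_iff _).2
        (hB.V_le_core hM v), mul_one]
      exact Subgroup.pow_mem _ (Subgroup.mem_zpowers _) _
    · rw [Subgroup.zpowers_le]
      exact Subgroup.mem_centralizer_singleton_iff.2 rfl
  have hperf' : commutator (G ⧸ C) = ⊤ := BrauerReynolds.perfect_map hq hperf
  refine card_lt_cube' hperf' p (q D.x) hz hCz fun m hm => ?_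
  have hsyl : Nat.card (Sylow p (G ⧸ C)) = Nat.card (Sylow p G) := by
    rw [(P.mapSurjective hq).card_eq_index_normalizer, P.card_eq_index_normalizer,
      ← Subgroup.index_comap_of_surjective _ hq,
      show ((P.mapSurjective hq : Sylow p (G ⧸ C)) : Set (G ⧸ C)) = ((P : Subgroup G).map q : Set (G ⧸ C)) from rfl,
      show ((P : Sylow p G) : Set G) = ((P : Subgroup G) : Set G) from rfl, ← hD, MonoidHom.map_zpowers]
    congr 1
    ext g
    rw [Subgroup.mem_comap, normalizer_iff_zpowers, normalizer_iff_zpowers, ← map_inv, ← map_mul, ← map_mul]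
    constructor
    · intro h1
      obtain ⟨k, hk⟩ := mem_zpowers_iff_mem_range_orderOf.1 h1 |> Finset.mem_image.1
      rw [hlift g k (by rw [map_pow]; exact hk.2.symm)]
      exact Subgroup.pow_mem _ (Subgroup.mem_zpowers _) _
    · intro h1
      rw [← MonoidHom.map_zpowers]
      exact Subgroup.mem_map_of_mem _ h1
  rw [hsyl, hn, Nat.succ_inj] at hm
  rw [← Nat.eq_of_mul_eq_mul_right hp.pos hm]
  exact hF

end CfsgLib.BrauerFew
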